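import Mathlib
import Cfsg.Prelude.Def_HallClasses

set_option autoImplicit false

/-!
# Pronormality of overgroups of a Sylow subgroup

If a Sylow subgroup `P` has normaliser `P T` with `T` abelian and every element is `u n u'` with
`u, u' ∈ P` and `n` normalising `T`, every overgroup of `P` is pronormal.
-/

namespace CfsgLib.Pronormal

open Cfsg

universe u

variable {G : Type u} [Group G]

/-- `g H g⁻¹`. -/
def cj (g : G) (H : Subgroup G) : Subgroup G := H.map (MulAut.conj g).toMonoidHom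

theorem mem_cj {g : G} {H : Subgroup G} {x : G} : x ∈ cj g H ↔ g⁻¹ * x * g ∈ H :=
  ⟨by rintro ⟨y, hy, rfl⟩; simpa [mul_assoc] using hy, fun h => ⟨_, h, by simp [mul_assoc]⟩⟩

theorem cj_mul (a b : G) (H : Subgroup G) : cj (a * b) H = cj a (cj b H) := by
  ext x
  simp only [mem_cj, mul_inv_rev, mul_assoc]

theorem cj_one (H : Subgroup G) : cj 1 H = H := by
  ext x
  simp [mem_cj]

theorem cj_mono (g : G) {H K : Subgroup G} (h : H ≤ K) : cj g H ≤ cj g K := Subgroup.map_mono h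

theorem cj_le_of_mem {K H : Subgroup G} (hH : H ≤ K) {k : G} (hk : k ∈ K) : cj k H ≤ K := by
  intro x hx
  rw [mem_cj] at hx
  have := K.mul_mem (K.mul_mem hk (hH hx)) (K.inv_mem hk)
  simpa [mul_assoc] using this

theorem cj_self {H : Subgroup G} {g : G} (hg : g ∈ H) : cj g H = H := by
  ext x
  rw [mem_cj]
  refine ⟨fun h => ?_, fun h => H.mul_mem (H.mul_mem (H.inv_mem hg) h) hg⟩
  have := H.mul_mem (H.mul_mem hg h) (H.inv_mem hg)
  simpa [mul_assoc] using this

theorem cj_eq_iff {g : G} {H : Subgroup G} :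
    cj g H = H ↔ g ∈ Subgroup.normalizer (H : Set G) := by
  rw [Subgroup.mem_normalizer_iff, SetLike.ext_iff]
  simp only [mem_cj]
  refine ⟨fun h x => ?_, fun h x => ?_⟩
  · have := h (g * x * g⁻¹)
    simpa [mul_assoc] using this
  · have := h (g⁻¹ * x * g)
    simpa [mul_assoc] using this

theorem isPronormal_iff (H : Subgroup G) :
    IsPronormal H ↔ ∀ g : G, ∃ x ∈ H ⊔ cj g H, cj g H = cj x H := Iff.rfl

/-- Two Sylow subgroups inside a subgroup are conjugate there. -/
theorem exists_cj_sylow {p : ℕ} [Fact p.Prime] [Finite G] {K : Subgroup G} (P Q : Sylow p G)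
    (hP : (P : Subgroup G) ≤ K) (hQ : (Q : Subgroup G) ≤ K) :
    ∃ k ∈ K, cj k (Q : Subgroup G) = P := by
  obtain ⟨k, hk⟩ := MulAction.exists_smul_eq K (Q.subtype hQ) (P.subtype hP)
  refine ⟨k, k.2, ?_⟩
  rw [Sylow.smul_subtype] at hk
  rw [← Sylow.subtype_injective hk]
  rfl

/-- Only the normaliser of a contained Sylow subgroup matters. -/
theorem isPronormal_of_normalizer {p : ℕ} [Fact p.Prime] [Finite G] {H : Subgroup G}
    (P : Sylow p G) (hPH : (P : Subgroup G) ≤ H)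
    (h : ∀ a ∈ Subgroup.normalizer ((P : Subgroup G) : Set G), ∃ x ∈ H ⊔ cj a H, cj a H = cj x H) :
    IsPronormal H := by
  rw [isPronormal_iff]
  intro g
  have hQ : ((g • P : Sylow p G) : Subgroup G) = cj g (P : Subgroup G) := rfl
  obtain ⟨k, hk, he⟩ := exists_cj_sylow (K := H ⊔ cj g H) P (g • P) (hPH.trans le_sup_left)
    (hQ ▸ (cj_mono g hPH).trans le_sup_right)
  rw [hQ, ← cj_mul] at he
  obtain ⟨x, hx, hxe⟩ := h (k * g) (cj_eq_iff.1 he)
  have hle : H ⊔ cj (k * g) H ≤ H ⊔ cj g H :=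
    sup_le le_sup_left (by rw [cj_mul]; exact cj_le_of_mem le_sup_right hk)
  refine ⟨k⁻¹ * x, Subgroup.mul_mem _ (Subgroup.inv_mem _ hk) (hle hx), ?_⟩
  rw [cj_mul k⁻¹, ← hxe, ← cj_mul, inv_mul_cancel_left]

theorem isPronormal_of_normalizer_le {p : ℕ} [Fact p.Prime] [Finite G] {H : Subgroup G}
    (P : Sylow p G) (hPH : (P : Subgroup G) ≤ H)
    (h : Subgroup.normalizer ((P : Subgroup G) : Set G) ≤ H) : IsPronormal H :=
  isPronormal_of_normalizer P hPH fun _ ha => ⟨1, Subgroup.one_mem _, by rw [cj_self (h ha), cj_one]⟩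

/-- The torus criterion. -/
theorem isPronormal_of_cells {p : ℕ} [Fact p.Prime] [Finite G] (P : Sylow p G) (T : Subgroup G)
    (hcomm : ∀ a ∈ T, ∀ b ∈ T, a * b = b * a)
    (hnorm : ∀ a ∈ Subgroup.normalizer ((P : Subgroup G) : Set G), ∃ u ∈ (P : Subgroup G), ∃ t ∈ T, a = u * t)
    (hT : T ≤ Subgroup.normalizer ((P : Subgroup G) : Set G))
    (hcells : ∀ g : G, ∃ u ∈ (P : Subgroup G), ∃ n ∈ Subgroup.normalizer (T : Set G),
      ∃ u' ∈ (P : Subgroup G), g = u * n * u')
    (H : Subgroup G) (hPH : (P : Subgroup G) ≤ H) : IsPronormal H := by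
  refine isPronormal_of_normalizer P hPH fun a ha => ?_
  obtain ⟨u, hu, t, ht, rfl⟩ := hnorm a ha
  refine ⟨1, Subgroup.one_mem _, ?_⟩
  rw [cj_one, cj_mul]
  suffices hle : cj t H = H by rw [hle, cj_self (hPH hu)]
  clear hu ha u
  let W : Set G := {x | ∃ n ∈ H, n ∈ Subgroup.normalizer (T : Set G) ∧ x ∈ cj n (P : Subgroup G)}
  let R : Subgroup G := Subgroup.closure W
  have hPR : (P : Subgroup G) ≤ R := fun x hx =>
    Subgroup.subset_closure ⟨1, H.one_mem, Subgroup.one_mem _, by rwa [cj_one]⟩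
  have hconj : ∀ g : G, (∀ x ∈ W, g * x * g⁻¹ ∈ R) → ∀ r ∈ R, g * r * g⁻¹ ∈ R := by
    intro g hg r hr
    induction hr using Subgroup.closure_induction with
    | mem x hx => exact hg x hx
    | one => simp
    | mul x y _ _ hx hy => rw [show g * (x * y) * g⁻¹ = g * x * g⁻¹ * (g * y * g⁻¹) by group]; exact R.mul_mem hx hy
    | inv x _ hx => rw [show g * x⁻¹ * g⁻¹ = (g * x * g⁻¹)⁻¹ by group]; exact R.inv_mem hx
  have hRN : ∀ n ∈ H, n ∈ Subgroup.normalizer (T : Set G) → ∀ r ∈ R, n * r * n⁻¹ ∈ R := by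
    intro n hn hn' r hr
    refine hconj n (fun x hx => ?_) r hr
    obtain ⟨m, hm, hm', hx⟩ := hx
    refine Subgroup.subset_closure ⟨n * m, H.mul_mem hn hm, Subgroup.mul_mem _ hn' hm', ?_⟩
    rw [mem_cj] at hx ⊢
    simpa [mul_assoc] using hx
  have hRT : ∀ s ∈ T, ∀ r ∈ R, s * r * s⁻¹ ∈ R := by
    intro s hs r hr
    refine hconj s (fun x hx => ?_) r hr
    obtain ⟨m, hm, hm', hx⟩ := hx
    refine Subgroup.subset_closure ⟨m, hm, hm', ?_⟩
    rw [mem_cj] at hx ⊢
    have hs' : m⁻¹ * s * m ∈ T := by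
      have := (Subgroup.mem_normalizer_iff.1 (Subgroup.inv_mem _ hm') s).1 hs
      simpa using this
    have := (Subgroup.mem_normalizer_iff.1 (hT hs') _).1 hx
    simpa [mul_assoc] using this
  have hRu : ∀ v ∈ (P : Subgroup G), ∀ r ∈ R, v * r * v⁻¹ ∈ R := fun v hv r hr =>
    R.mul_mem (R.mul_mem (hPR hv) hr) (R.inv_mem (hPR hv))
  have hRH : ∀ h ∈ H, cj h (P : Subgroup G) ≤ R := by
    intro h hh x hx
    obtain ⟨v, hv, n, hn, v', hv', rfl⟩ := hcells h
    have hnH : n ∈ H := by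
      have := H.mul_mem (H.mul_mem (H.inv_mem (hPH hv)) hh) (H.inv_mem (hPH hv'))
      simpa [mul_assoc] using this
    rw [cj_mul, cj_self hv', cj_mul, mem_cj] at hx
    have := hRu v hv _ (Subgroup.subset_closure ⟨n, hnH, hn, hx⟩)
    simpa [mul_assoc] using this
  have hRle : R ≤ H := (Subgroup.closure_le H).2 fun x ⟨n, hn, _, hx⟩ => cj_le_of_mem hPH hn hx
  have key : ∀ s ∈ T, ∀ h ∈ H, s * h * s⁻¹ ∈ H := by
    intro s hs h hh
    have hQ : ((h • P : Sylow p G) : Subgroup G) = cj h (P : Subgroup G) := rfl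
    obtain ⟨r, hr, he⟩ := exists_cj_sylow (K := R) P (h • P) hPR (hQ ▸ hRH h hh)
    rw [hQ, ← cj_mul, cj_eq_iff] at he
    obtain ⟨v, hv, s', hs', heq⟩ := hnorm _ he
    have hs'H : s' ∈ H := by
      rw [eq_inv_mul_of_mul_eq heq.symm]
      exact H.mul_mem (H.inv_mem (hPH hv)) (H.mul_mem (hRle hr) hh)
    have hh' : h = r⁻¹ * v * s' := by rw [mul_assoc, ← heq, inv_mul_cancel_left]
    have hc : s * s' * s⁻¹ = s' := by rw [hcomm s hs s' hs', mul_inv_cancel_right]
    rw [hh', show s * (r⁻¹ * v * s') * s⁻¹ = s * (r⁻¹ * v) * s⁻¹ * (s * s' * s⁻¹) by group, hc]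
    exact H.mul_mem (hRle (hRT s hs _ (R.mul_mem (R.inv_mem hr) (hPR hv)))) hs'H
  rw [cj_eq_iff, Subgroup.mem_normalizer_iff]
  refine fun x => ⟨fun hx => key t ht x hx, fun hx => ?_⟩
  have := key t⁻¹ (T.inv_mem ht) _ hx
  simpa [mul_assoc] using this

/-- An odd index subgroup contains a Sylow `2`-subgroup. -/
theorem exists_sylow_le [Finite G] {H : Subgroup G} (hH : Odd H.index) :
    ∃ P : Sylow 2 G, (P : Subgroup G) ≤ H := by
  have := Fact.mk Nat.prime_two
  let Q : Sylow 2 H := default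
  refine ⟨Sylow.ofCard ((Q : Subgroup H).map H.subtype) ?_, ?_⟩
  · rw [Subgroup.card_subtype, Q.card_eq_multiplicity, ← H.card_mul_index,
      Nat.factorization_mul Nat.card_pos.ne' H.index_ne_zero_of_finite, Finsupp.add_apply,
      Nat.factorization_eq_zero_of_not_dvd (Nat.two_dvd_ne_zero.2 (Nat.odd_iff.1 hH)), add_zero]
  · rw [Sylow.coe_ofCard]
    exact Subgroup.map_subtype_le _

/-- Odd index subgroups of a quotient. -/
theorem isPronormal_of_comap {Q : Type*} [Group Q] {f : G →* Q} (hf : Function.Surjective f)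
    {H : Subgroup Q} (h : IsPronormal (H.comap f)) : IsPronormal H := by
  rw [isPronormal_iff] at h ⊢
  intro g
  obtain ⟨g', rfl⟩ := hf g
  obtain ⟨x, hx, he⟩ := h g'
  have hm : ∀ y, (cj y (H.comap f)).map f = cj (f y) H := by
    intro y
    conv_rhs => rw [← Subgroup.map_comap_eq_self_of_surjective hf H]
    rw [cj, cj, Subgroup.map_map, Subgroup.map_map]
    congr 1
    ext z
    simp
  refine ⟨f x, ?_, ?_⟩
  · have := Subgroup.mem_map_of_mem f hx
    rwa [Subgroup.map_sup, hm, Subgroup.map_comap_eq_self_of_surjective hf] at this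
  · rw [← hm, ← hm, he]

theorem odd_index_pronormal_of_surjective {Q : Type*} [Group Q] {f : G →* Q} (hf : Function.Surjective f)
    (h : ∀ K : Subgroup G, Odd K.index → IsPronormal K) (H : Subgroup Q) (hH : Odd H.index) :
    IsPronormal H :=
  isPronormal_of_comap hf (h _ (by rwa [Subgroup.index_comap_of_surjective _ hf]))

/-- Self-normalising Sylow `2`-subgroups. -/
theorem odd_index_pronormal_of_self_normalizing [Finite G]
    (h : ∀ P : Sylow 2 G, Subgroup.normalizer ((P : Subgroup G) : Set G) = P)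
    (H : Subgroup G) (hH : Odd H.index) : IsPronormal H := by
  have := Fact.mk Nat.prime_two
  obtain ⟨P, hP⟩ := exists_sylow_le hH
  exact isPronormal_of_normalizer_le P hP ((h P).le.trans hP)

end CfsgLib.Pronormal
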