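import Cfsg.Agent.Lib.Pronormal.Basic
import Cfsg.Agent.Lib.Classical.Unitriangular

set_option autoImplicit false

/-!
# Overgroups of the unitriangular group in `SL_n` and its twisted fixed subgroups are pronormal

Bruhat decomposition with unique left factor, so it descends to the fixed points of an automorphism
preserving the triangular structure.
-/

namespace CfsgLib.Pronormal.Bruhat

open Matrix CfsgLib.Classical.Unitri

variable {F : Type*} [Field F] {n : ℕ}

local notation "SLn" => Matrix.SpecialLinearGroup (Fin n) F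

/-- Monomial matrices with permutation `π`. -/
def IsMono (M : Matrix (Fin n) (Fin n) F) (π : Equiv.Perm (Fin n)) : Prop :=
  ∀ i j, M i j ≠ 0 ↔ i = π j

theorem IsMono.zero {M : Matrix (Fin n) (Fin n) F} {π : Equiv.Perm (Fin n)} (h : IsMono M π) {i j : Fin n}
    (hij : i ≠ π j) : M i j = 0 := by
  by_contra hc
  exact hij ((h i j).1 hc)

theorem IsMono.mul_apply {M : Matrix (Fin n) (Fin n) F} {π : Equiv.Perm (Fin n)} (h : IsMono M π)
    (A : Matrix (Fin n) (Fin n) F) (i j : Fin n) : (A * M) i j = A i (π j) * M (π j) j := by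
  rw [Matrix.mul_apply, Finset.sum_eq_single (π j)]
  · intro k _ hk; rw [h.zero hk, mul_zero]
  · simp

theorem IsMono.apply_mul {M : Matrix (Fin n) (Fin n) F} {π : Equiv.Perm (Fin n)} (h : IsMono M π)
    (A : Matrix (Fin n) (Fin n) F) (i j : Fin n) : (M * A) i j = M i (π.symm i) * A (π.symm i) j := by
  rw [Matrix.mul_apply, Finset.sum_eq_single (π.symm i)]
  · intro k _ hk
    rw [h.zero (fun he => hk (by rw [he, Equiv.symm_apply_apply])), zero_mul]
  · simp

theorem det_isUnitri {A : Matrix (Fin n) (Fin n) F} (h : IsUnitri A) : A.det = 1 := by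
  rw [Matrix.det_of_isUpperTriangular h.blockTriangular]
  exact Finset.prod_eq_one fun i _ => h.diag i

/-- One elimination sweep. -/
theorem sweep {g : Matrix (Fin n) (Fin n) F} (hg : g.det ≠ 0) : ∀ m : ℕ, m ≤ n →
    ∃ (u u' : Matrix (Fin n) (Fin n) F) (p : Fin n → Fin n), IsUnitri u ∧ IsUnitri u' ∧
      (∀ i k, i < k → u i k ≠ 0 → ∃ j : Fin n, (j : ℕ) < m ∧ p j = k ∧ ∀ l : Fin n, l ≤ j → p l ≠ i) ∧
      (∀ j j' : Fin n, (j : ℕ) < m → (j' : ℕ) < m → p j = p j' → j = j') ∧
      (∀ j : Fin n, (j : ℕ) < m → (u * g * u') (p j) j ≠ 0) ∧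
      (∀ j : Fin n, (j : ℕ) < m → (∀ i, i ≠ p j → (u * g * u') i j = 0) ∧ ∀ l, l ≠ j → (u * g * u') (p j) l = 0) := by
  intro m
  induction m with
  | zero =>
    intro _
    exact ⟨1, 1, id, isUnitri_one, isUnitri_one, fun i k hik h => absurd (one_apply_ne hik.ne) h,
      fun j _ h => absurd h (Nat.not_lt_zero _), fun j h => absurd h (Nat.not_lt_zero _),
      fun j h => absurd h (Nat.not_lt_zero _)⟩
  | succ m ih =>
    intro hm
    obtain ⟨u, u', p, hu, hu', hsupp, hinj, hne, hclean⟩ := ih (by omega)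
    classical
    set h := u * g * u' with hh
    set m' : Fin n := ⟨m, by omega⟩ with hm'
    have hdet : h.det ≠ 0 := by
      rw [hh, det_mul, det_mul, det_isUnitri hu, det_isUnitri hu', one_mul, mul_one]; exact hg
    have hS : (Finset.univ.filter fun i => h i m' ≠ 0).Nonempty := by
      by_contra hc
      rw [Finset.not_nonempty_iff_eq_empty, Finset.filter_eq_empty_iff] at hc
      exact hdet (det_eq_zero_of_column_eq_zero m' fun i => by simpa using hc (Finset.mem_univ i))
    set k := Finset.max' _ hS with hk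
    have hkne : h k m' ≠ 0 := (Finset.mem_filter.1 (Finset.max'_mem _ hS)).2
    have hkmax : ∀ i, h i m' ≠ 0 → i ≤ k := fun i hi => Finset.le_max' _ i (Finset.mem_filter.2 ⟨Finset.mem_univ i, hi⟩)
    have hlt : ∀ j : Fin n, (j : ℕ) < m → m' ≠ j := fun j hj he => by
      have := congrArg Fin.val he
      simp [hm'] at this
      omega
    have hpk : ∀ j : Fin n, (j : ℕ) < m → p j ≠ k := fun j hj he =>
      hkne (he ▸ (hclean j hj).2 m' (hlt j hj))
    set a : Fin n → F := fun i => if i = k then 0 else -(h i m' / h k m') with ha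
    set V : Matrix (Fin n) (Fin n) F := 1 + vecMulVec a (Pi.single k 1) with hV
    set b : Fin n → F := fun l => if l = m' then 0 else -(h k l / h k m') with hb
    set R : Matrix (Fin n) (Fin n) F := 1 + vecMulVec (Pi.single m' 1) b with hR
    have hak : ∀ i, a i ≠ 0 → i < k ∧ ∀ j : Fin n, (j : ℕ) < m → p j ≠ i := by
      intro i hi
      have hik : i ≠ k := fun e => hi (by rw [ha]; simp [e])
      have him : h i m' ≠ 0 := fun e => hi (by rw [ha]; simp [hik, e])
      exact ⟨lt_of_le_of_ne (hkmax i him) hik, fun j hj he => him (he ▸ (hclean j hj).2 m' (hlt j hj))⟩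
    have hbl : ∀ l, b l ≠ 0 → m' < l := by
      intro l hl
      have hlm : l ≠ m' := fun e => hl (by rw [hb]; simp [e])
      by_contra hc
      have hlm' : (l : ℕ) < m := Fin.lt_def.1 (lt_of_le_of_ne (not_lt.1 hc) hlm)
      exact hl (by rw [hb]; simp [hlm, (hclean l hlm').1 k (Ne.symm (hpk l hlm'))])
    have hVu : IsUnitri V := by
      intro i j hji
      rw [hV, Matrix.add_apply, vecMulVec_apply, one_apply]
      by_cases hjk : j = k
      · subst hjk
        by_cases hai : a i = 0
        · rw [hai, zero_mul, add_zero]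
        · exact absurd hji (not_le.2 (hak i hai).1)
      · rw [Pi.single_eq_of_ne hjk, mul_zero, add_zero]
    have hRu : IsUnitri R := by
      intro i j hji
      rw [hR, Matrix.add_apply, vecMulVec_apply, one_apply]
      by_cases him : i = m'
      · subst him
        by_cases hbj : b j = 0
        · rw [hbj, mul_zero, add_zero]
        · exact absurd hji (not_le.2 (hbl j hbj))
      · rw [Pi.single_eq_of_ne him, zero_mul, add_zero]
    have hVh : ∀ i l, (V * h) i l = h i l + a i * h k l := by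
      intro i l
      rw [hV, add_mul, one_mul, Matrix.add_apply, vecMulVec_mul, vecMulVec_apply]
      simp [single_one_vecMul]
    have hMR : ∀ i l, (V * h * R) i l = (V * h) i l + (V * h) i m' * b l := by
      intro i l
      rw [hR, mul_add, mul_one, Matrix.add_apply, mul_vecMulVec, vecMulVec_apply]
      simp [mulVec_single_one]
    have hak0 : a k = 0 := by simp [ha]
    have hbm : b m' = 0 := by simp [hb]
    have hcol : ∀ i, i ≠ k → (V * h) i m' = 0 := fun i hi => by
      rw [hVh, ha]; simp only [if_neg hi]; field_simp; ring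
    refine ⟨V * u, u' * R, Function.update p m' k, hVu.mul hu, hu'.mul hRu, ?_, ?_, ?_, ?_⟩
    · intro i l hil hne'
      rw [hV, add_mul, one_mul, Matrix.add_apply, vecMulVec_mul, vecMulVec_apply, single_one_vecMul] at hne'
      have hup : ∀ j : Fin n, (j : ℕ) < m → Function.update p m' k j = p j := fun j hj =>
        Function.update_of_ne (Ne.symm (hlt j hj)) _ _
      by_cases hul : u i l ≠ 0
      · obtain ⟨j, hj, hjl, hjall⟩ := hsupp i l hil hul
        refine ⟨j, by omega, by rw [hup j hj, hjl], fun l' hl' => ?_⟩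
        rw [hup l' (lt_of_le_of_lt (Fin.le_def.1 hl') hj)]
        exact hjall l' hl'
      push Not at hul
      rw [hul, zero_add] at hne'
      have hai : a i ≠ 0 := left_ne_zero_of_mul hne'
      have hkl : u k l ≠ 0 := right_ne_zero_of_mul hne'
      rcases lt_trichotomy k l with hkl' | rfl | hkl'
      · obtain ⟨j, hj, hjl, -⟩ := hsupp k l hkl' hkl
        refine ⟨j, by omega, by rw [hup j hj, hjl], fun l' hl' => ?_⟩
        have hl'm := lt_of_le_of_lt (Fin.le_def.1 hl') hj
        rw [hup l' hl'm]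
        exact (hak i hai).2 l' hl'm
      · refine ⟨m', Nat.lt_succ_self m, Function.update_self _ _ _, fun l' hl' => ?_⟩
        by_cases hl'm : l' = m'
        · rw [hl'm, Function.update_self]; exact (hak i hai).1.ne'
        · rw [Function.update_of_ne hl'm]
          exact (hak i hai).2 l' (Fin.lt_def.1 (lt_of_le_of_ne hl' hl'm))
      · exact absurd (hu.below hkl') hkl
    · intro j j' hj hj' he
      by_cases h1 : j = m' <;> by_cases h2 : j' = m'
      · rw [h1, h2]
      · rw [h1, Function.update_self, Function.update_of_ne h2] at he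
        exact absurd he.symm (hpk j' (by
          have : (j' : ℕ) ≠ m := fun e => h2 (Fin.ext e)
          omega))
      · rw [h2, Function.update_self, Function.update_of_ne h1] at he
        exact absurd he (hpk j (by
          have : (j : ℕ) ≠ m := fun e => h1 (Fin.ext e)
          omega))
      · rw [Function.update_of_ne h1, Function.update_of_ne h2] at he
        refine hinj j j' ?_ ?_ he
        · have : (j : ℕ) ≠ m := fun e => h1 (Fin.ext e)
          omega
        · have : (j' : ℕ) ≠ m := fun e => h2 (Fin.ext e)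
          omega
    all_goals
      have hassoc : V * u * g * (u' * R) = V * h * R := by rw [hh]; simp only [Matrix.mul_assoc]
      intro j hj
      rw [hassoc]
      rcases Nat.lt_succ_iff_lt_or_eq.1 hj with hj' | hj'
      · have hbj : b j = 0 := by
          by_contra hc
          have := Fin.lt_def.1 (hbl j hc)
          simp [hm'] at this
          omega
        have hap : a (p j) = 0 := by
          by_contra hc
          exact (hak _ hc).2 j hj' rfl
        have hpm : (V * h) (p j) m' = 0 := hcol _ (hpk j hj')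
        have hkj : h k j = 0 := (hclean j hj').1 k (Ne.symm (hpk j hj'))
        rw [Function.update_of_ne (Ne.symm (hlt j hj'))]
        first
          | (rw [hMR, hbj, mul_zero, add_zero, hVh, hap, zero_mul, add_zero]; exact hne j hj')
          | (refine ⟨fun i hi => ?_, fun l hl => ?_⟩
             · rw [hMR, hbj, mul_zero, add_zero, hVh, hkj, mul_zero, add_zero, (hclean j hj').1 i hi]
             · rw [hMR, hpm, zero_mul, add_zero, hVh, hap, zero_mul, add_zero, (hclean j hj').2 l hl])
      · obtain rfl : j = m' := Fin.ext hj'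
        rw [Function.update_self]
        first
          | (rw [hMR, hbm, mul_zero, add_zero, hVh, hak0, zero_mul, add_zero]; exact hkne)
          | (refine ⟨fun i hi => ?_, fun l hl => ?_⟩
             · rw [hMR, hbm, mul_zero, add_zero, hcol i hi]
             · rw [hMR, hVh k, hVh k m', hak0, zero_mul, add_zero, zero_mul, add_zero, hb]
               simp only [if_neg hl]
               field_simp
               ring)

variable [Finite F]

/-- The inversion group of a permutation. -/
noncomputable def W (π : Equiv.Perm (Fin n)) : Subgroup SLn :=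
  ({ carrier := {A | IsUnitri A.val ∧ ∀ i j, i < j → π.symm i < π.symm j → A.val i j = 0}
     one_mem' := ⟨isUnitri_one, fun i j hij _ => one_apply_ne hij.ne⟩
     mul_mem' := fun {A B} hA hB => ⟨hA.1.mul hB.1, fun i l hil hπ => by
       rw [Matrix.SpecialLinearGroup.coe_mul, Matrix.mul_apply]
       refine Finset.sum_eq_zero fun j _ => ?_
       rcases lt_trichotomy i j with h | rfl | h
       · rcases lt_trichotomy j l with h' | rfl | h'
         · rcases lt_trichotomy (π.symm i) (π.symm j) with e | e | e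
           · rw [hA.2 i j h e, zero_mul]
           · exact absurd (π.symm.injective e) h.ne
           · rw [hB.2 j l h' (e.trans hπ), mul_zero]
         · rw [hA.2 i j hil hπ, zero_mul]
         · rw [hB.1.below h', mul_zero]
       · rw [hB.2 i l hil hπ, mul_zero]
       · rw [hA.1.below h, zero_mul]⟩ } : Submonoid SLn) |> toSubgroupFinite

theorem mem_W {π : Equiv.Perm (Fin n)} {A : SLn} :
    A ∈ W π ↔ IsUnitri A.val ∧ ∀ i j, i < j → π.symm i < π.symm j → A.val i j = 0 := Iff.rfl

theorem W_le (π : Equiv.Perm (Fin n)) : (W π : Subgroup SLn) ≤ U n F := fun _ h => h.1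

/-- Bruhat decomposition. -/
theorem exists_bruhat (g : SLn) : ∃ (π : Equiv.Perm (Fin n)) (u : SLn) (m : SLn) (u' : SLn),
    u ∈ W π ∧ IsMono m.val π ∧ u' ∈ U n F ∧ g = u * m * u' := by
  obtain ⟨u, u', p, hu, hu', hsupp, hinj, hne, hclean⟩ := sweep (g := g.val) (by rw [g.2]; exact one_ne_zero) n le_rfl
  have hp : Function.Bijective p :=
    Finite.injective_iff_bijective.1 fun j j' h => hinj j j' j.2 j'.2 h
  let π : Equiv.Perm (Fin n) := Equiv.ofBijective p hp
  let x : SLn := ⟨u, det_isUnitri hu⟩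
  let x' : SLn := ⟨u', det_isUnitri hu'⟩
  have hx : x ∈ W π := by
    refine mem_W.2 ⟨hu, fun i k hik hlt => ?_⟩
    by_contra hc
    obtain ⟨j, -, hjk, hall⟩ := hsupp i k hik hc
    have hk : π.symm k = j := π.symm_apply_eq.2 hjk.symm
    exact hall (π.symm i) (hk ▸ hlt.le) (π.apply_symm_apply i)
  refine ⟨π, x⁻¹, x * g * x', x'⁻¹, (W π).inv_mem hx, fun i j => ⟨fun h => ?_, fun h => ?_⟩,
    (U n F).inv_mem hu', by group⟩
  · by_contra hij
    exact h ((hclean j j.2).1 i hij)
  · subst h
    exact hne j j.2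

/-- The monomial part is unique. -/
theorem mono_unique {π π₂ : Equiv.Perm (Fin n)} {u u' v v' m m₂ : SLn} (hu : u ∈ U n F) (hu' : u' ∈ U n F)
    (hv : v ∈ U n F) (hv' : v' ∈ U n F) (hm : IsMono m.val π) (hm₂ : IsMono m₂.val π₂)
    (h : u * m * u' = v * m₂ * v') : π = π₂ ∧ m = m₂ := by
  set a := v⁻¹ * u
  set b := v' * u'⁻¹
  have ha : IsUnitri a.val := (U n F).mul_mem ((U n F).inv_mem hv) hu
  have hb : IsUnitri b.val := (U n F).mul_mem hv' ((U n F).inv_mem hu')
  have hab : a.val * m.val = m₂.val * b.val := by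
    rw [← Matrix.SpecialLinearGroup.coe_mul, ← Matrix.SpecialLinearGroup.coe_mul]
    congr 1
    show v⁻¹ * u * m = m₂ * (v' * u'⁻¹)
    rw [← mul_assoc m₂, eq_mul_inv_iff_mul_eq, mul_assoc, mul_assoc v⁻¹, ← mul_assoc u, h]
    group
  have he : ∀ j, m₂.val (π j) (π₂.symm (π j)) * b.val (π₂.symm (π j)) j = m.val (π j) j := fun j => by
    have h2 := congrFun (congrFun hab (π j)) j
    rw [hm.mul_apply, ha.diag, one_mul, hm₂.apply_mul] at h2
    exact h2.symm
  have hle : ∀ j, π₂.symm (π j) ≤ j := by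
    intro j
    by_contra hc
    have h2 := he j
    rw [hb.below (not_le.1 hc), mul_zero] at h2
    exact (hm (π j) j).2 rfl h2.symm
  have hfix : ∀ (k : ℕ) (j : Fin n), (j : ℕ) = k → π₂.symm (π j) = j := by
    intro k
    induction k using Nat.strong_induction_on with
    | _ k ih =>
      intro j hj
      refine le_antisymm (hle j) ?_
      by_contra hc
      have hlt := Fin.lt_def.1 (not_le.1 hc)
      have := ih (π₂.symm (π j) : ℕ) (hj ▸ hlt) _ rfl
      exact absurd (π.injective (π₂.symm.injective this)) (not_le.1 hc).ne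
  have hπ : π = π₂ := Equiv.ext fun j => by
    have := hfix j j rfl
    rwa [Equiv.symm_apply_eq] at this
  refine ⟨hπ, ?_⟩
  subst hπ
  refine Matrix.SpecialLinearGroup.ext _ _ fun i j => ?_
  by_cases hij : i = π j
  · subst hij
    have h2 := he j
    rw [Equiv.symm_apply_apply, hb.diag, mul_one] at h2
    exact h2.symm
  · rw [hm.zero hij, hm₂.zero hij]

/-- The left factor is unique. -/
theorem left_unique {π : Equiv.Perm (Fin n)} {u u' v v' m : SLn} (hu : u ∈ W π) (hu' : u' ∈ U n F)
    (hv : v ∈ W π) (hv' : v' ∈ U n F) (hm : IsMono m.val π) (h : u * m * u' = v * m * v') : u = v := by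
  set a := v⁻¹ * u with ha_def
  set b := v' * u'⁻¹
  obtain ⟨ha, ha0⟩ := mem_W.1 ((W π).mul_mem ((W π).inv_mem hv) hu)
  have hb : IsUnitri b.val := (U n F).mul_mem hv' ((U n F).inv_mem hu')
  have hab : a.val * m.val = m.val * b.val := by
    rw [← Matrix.SpecialLinearGroup.coe_mul, ← Matrix.SpecialLinearGroup.coe_mul]
    congr 1
    show v⁻¹ * u * m = m * (v' * u'⁻¹)
    rw [← mul_assoc m, eq_mul_inv_iff_mul_eq, mul_assoc, mul_assoc v⁻¹, ← mul_assoc u, h]
    group
  suffices hone : a = 1 by exact (inv_mul_eq_one.1 hone).symm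
  refine Matrix.SpecialLinearGroup.ext _ _ fun i j => ?_
  rw [Matrix.SpecialLinearGroup.coe_one, one_apply]
  rcases le_or_gt j i with hji | hij
  · exact ha i j hji
  rw [if_neg hij.ne]
  rcases lt_trichotomy (π.symm i) (π.symm j) with e | e | e
  · exact ha0 i j hij e
  · exact absurd (π.symm.injective e) hij.ne
  · have h2 := congrFun (congrFun hab i) (π.symm j)
    rw [hm.mul_apply, hm.apply_mul, hb.below e, mul_zero, Equiv.apply_symm_apply] at h2
    exact (mul_eq_zero.1 h2).resolve_right ((hm j (π.symm j)).2 (π.apply_symm_apply j).symm)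

/-- Diagonal elements. -/
def IsDiag' (t : SLn) : Prop := IsMono t.val 1

theorem IsMono.mul {A B : Matrix (Fin n) (Fin n) F} {π ρ : Equiv.Perm (Fin n)} (hA : IsMono A π) (hB : IsMono B ρ) :
    IsMono (A * B) (π * ρ) := by
  intro i j
  rw [hB.mul_apply, mul_ne_zero_iff, hA]
  exact ⟨fun h => h.1, fun h => ⟨h, (hB _ _).2 rfl⟩⟩

theorem isMono_one : IsMono (1 : Matrix (Fin n) (Fin n) F) 1 := fun i j => by
  by_cases h : i = j <;> simp [h, Matrix.one_apply]

theorem IsMono.inv {A : SLn} {π : Equiv.Perm (Fin n)} (hA : IsMono A.val π) : IsMono (A⁻¹).val π⁻¹ := by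
  have h : A⁻¹ = A ^ (orderOf A - 1) := inv_eq_of_mul_eq_one_right (by
    rw [← pow_succ', Nat.sub_add_cancel (orderOf_pos A), pow_orderOf_eq_one])
  have key : ∀ k : ℕ, IsMono ((A ^ k).val) (π ^ k) := by
    intro k
    induction k with
    | zero => exact isMono_one
    | succ k ih => rw [pow_succ A, pow_succ π, Matrix.SpecialLinearGroup.coe_mul]; exact ih.mul hA
  have hk : π ^ orderOf A = 1 := by
    refine Equiv.ext fun j => ?_
    have h1 := key (orderOf A)
    rw [pow_orderOf_eq_one] at h1
    exact ((h1 j j).1 (by rw [Matrix.SpecialLinearGroup.coe_one, one_apply_eq]; exact one_ne_zero)).symm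
  rw [show π⁻¹ = π ^ (orderOf A - 1) from inv_eq_of_mul_eq_one_right (by
    rw [← pow_succ', Nat.sub_add_cancel (orderOf_pos A), hk]), h]
  exact key _

/-- The diagonal subgroup. -/
noncomputable def D (n : ℕ) (F : Type*) [Field F] [Finite F] : Subgroup (Matrix.SpecialLinearGroup (Fin n) F) :=
  ({ carrier := {A | IsMono A.val 1}
     one_mem' := isMono_one
     mul_mem' := fun {A B} hA hB => by simpa using hA.mul hB } : Submonoid (Matrix.SpecialLinearGroup (Fin n) F))
    |> toSubgroupFinite

theorem mem_D {A : SLn} : A ∈ D n F ↔ IsMono A.val 1 := Iff.rfl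

theorem D_comm {A B : SLn} (hA : A ∈ D n F) (hB : B ∈ D n F) : A * B = B * A := by
  refine Matrix.SpecialLinearGroup.ext _ _ fun i j => ?_
  rw [Matrix.SpecialLinearGroup.coe_mul, Matrix.SpecialLinearGroup.coe_mul, IsMono.mul_apply hB, IsMono.mul_apply hA]
  by_cases h : i = j
  · subst h; exact mul_comm _ _
  · have h' : i ≠ (1 : Equiv.Perm (Fin n)) j := h
    simp only [Equiv.Perm.coe_one, id_eq]
    rw [IsMono.zero hA h', IsMono.zero hB h', zero_mul, zero_mul]

theorem conj_U_of_D {A B : SLn} (hA : A ∈ D n F) (hB : B ∈ U n F) : A * B * A⁻¹ ∈ U n F := by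
  have hi : IsMono (A⁻¹).val 1 := (D n F).inv_mem hA
  intro i j hji
  rw [Matrix.SpecialLinearGroup.coe_mul, Matrix.SpecialLinearGroup.coe_mul, hi.mul_apply, IsMono.apply_mul hA]
  simp only [Equiv.Perm.coe_one, id_eq, Equiv.Perm.one_symm]
  by_cases h : i = j
  · subst h
    rw [if_pos rfl, (hB : IsUnitri B.val).diag, mul_one]
    have := congrFun (congrFun (congrArg Subtype.val (mul_inv_cancel A)) i) i
    rw [Matrix.SpecialLinearGroup.coe_mul, hi.mul_apply, Matrix.SpecialLinearGroup.coe_one, one_apply_eq] at this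
    simpa using this
  · rw [if_neg h, (hB : IsUnitri B.val).below (lt_of_le_of_ne hji (Ne.symm h)), mul_zero, zero_mul]

/-- An endomorphism compatible with the triangular structure. -/
structure Compat (φ : SLn →* SLn) : Prop where
  U_mem : ∀ u ∈ U n F, φ u ∈ U n F
  mono : ∀ (m : SLn) π, IsMono m.val π → ∃ π', IsMono (φ m).val π'
  W_mem : ∀ (m : SLn) π, IsMono m.val π → φ m = m → ∀ u ∈ W π, φ u ∈ W π
  root : ∀ i j : Fin n, i < j → ∃ x ∈ U n F, φ x = x ∧ x.val i j ≠ 0

/-- Bruhat decomposition inside the fixed subgroup. -/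
theorem exists_fixed {φ : SLn →* SLn} (hφ : Compat φ) (g : SLn) (hg : φ g = g) :
    ∃ π u m u', u ∈ U n F ∧ φ u = u ∧ IsMono (m : SLn).val π ∧ φ m = m ∧ u' ∈ U n F ∧ φ u' = u' ∧
      g = u * m * u' := by
  obtain ⟨π, u, m, u', hu, hm, hu', rfl⟩ := exists_bruhat g
  obtain ⟨π', hm'⟩ := hφ.mono m π hm
  rw [map_mul, map_mul] at hg
  obtain ⟨-, hmm⟩ := mono_unique (hφ.U_mem u (W_le π hu)) (hφ.U_mem u' hu') (W_le π hu) hu' hm' hm hg
  rw [hmm] at hg
  have huu := left_unique (hφ.W_mem m π hm hmm u hu) (hφ.U_mem u' hu') hu hu' hm hg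
  rw [huu, mul_left_cancel_iff] at hg
  exact ⟨π, u, m, u', W_le π hu, huu, hm, hmm, hu', hg, rfl⟩

/-- `U` is a `p`-group. -/
theorem isPGroup_U (p : ℕ) [Fact p.Prime] [CharP F p] : IsPGroup p (U n F : Subgroup SLn) := by
  cases nonempty_fintype F
  obtain ⟨f, hp, hf⟩ := FiniteField.card F p
  refine IsPGroup.of_card (n := f * (n * (n - 1) / 2)) ?_
  rw [card_U, Nat.card_eq_fintype_card, hf, ← pow_mul]

/-- Overgroups of a Sylow subgroup in the fixed group of a compatible endomorphism. -/
theorem isPronormal_fixed (p : ℕ) [Fact p.Prime] [CharP F p] {φ : SLn →* SLn} (hφ : Compat φ)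
    (P : Sylow p (φ.eqLocus (MonoidHom.id _))) (H : Subgroup (φ.eqLocus (MonoidHom.id _)))
    (hPH : (P : Subgroup (φ.eqLocus (MonoidHom.id _))) ≤ H) : Cfsg.IsPronormal H := by
  let X := φ.eqLocus (MonoidHom.id SLn)
  let P₀ : Subgroup X := (U n F).subgroupOf X
  let T : Subgroup X := (D n F).subgroupOf X
  have hnorm : ∀ a ∈ Subgroup.normalizer (P₀ : Set X), ∃ u ∈ P₀, ∃ t ∈ T, a = u * t := by
    intro a ha
    obtain ⟨π, u, m, u', hu, hφu, hm, hφm, hu', hφu', he⟩ := exists_fixed hφ a.1 a.2
    let v : X := ⟨u, hφu⟩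
    let w : X := ⟨m, hφm⟩
    let v' : X := ⟨u', hφu'⟩
    have hae : a = v * w * v' := Subtype.ext he
    have hv : v ∈ P₀ := hu
    have hv' : v' ∈ P₀ := hu'
    have hw : w ∈ Subgroup.normalizer (P₀ : Set X) := by
      rw [show w = v⁻¹ * a * v'⁻¹ by rw [hae]; group]
      exact Subgroup.mul_mem _ (Subgroup.mul_mem _ (Subgroup.inv_mem _ (Subgroup.le_normalizer hv)) ha)
        (Subgroup.inv_mem _ (Subgroup.le_normalizer hv'))
    have hmon : ∀ i j, i < j → π i < π j := by
      intro i j hij
      obtain ⟨x, hx, hφx, hxij⟩ := hφ.root i j hij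
      have h1 := (Subgroup.mem_normalizer_iff.1 hw ⟨x, hφx⟩).1 hx
      have h2 : IsUnitri (m * x * m⁻¹).val := h1
      have hi := hm.inv
      have hval : (m * x * m⁻¹).val (π i) (π j) = m.val (π i) i * x.val i j * (m⁻¹).val j (π j) := by
        rw [Matrix.SpecialLinearGroup.coe_mul, Matrix.SpecialLinearGroup.coe_mul, hi.mul_apply, hm.apply_mul]
        simp [Equiv.Perm.inv_def]
      by_contra hc
      rw [h2 (π i) (π j) (not_lt.1 hc), if_neg (fun e => hij.ne (π.injective e))] at hval
      exact mul_ne_zero (mul_ne_zero ((hm _ _).2 rfl) hxij) ((hi _ _).2 (by simp [Equiv.Perm.inv_def])) hval.symm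
    have hπ : π = 1 := by
      refine Equiv.ext fun j => ?_
      have hsm : StrictMono π := fun i j h => hmon i j h
      exact congrFun (StrictMono.eq_id hsm) j
    subst hπ
    have hwT : w ∈ T := hm
    refine ⟨v * (w * v' * w⁻¹), P₀.mul_mem hv ((Subgroup.mem_normalizer_iff.1 hw v').1 hv'), w, hwT, ?_⟩
    rw [hae]; group
  have hTN : T ≤ Subgroup.normalizer (P₀ : Set X) := fun t ht =>
    Subgroup.mem_normalizer_fintype fun x hx => conj_U_of_D (ht : t.1 ∈ D n F) (hx : x.1 ∈ U n F)
  have hTp : ∀ t ∈ T, ∀ k : ℕ, t ^ p ^ k = 1 → t = 1 := by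
    intro t ht k hk
    refine Subtype.ext (Matrix.SpecialLinearGroup.ext _ _ fun i j => ?_)
    have ht' : IsMono t.1.val 1 := ht
    rw [OneMemClass.coe_one, Matrix.SpecialLinearGroup.coe_one]
    by_cases hij : i = j
    · subst hij
      rw [one_apply_eq]
      have hpow : ∀ l : ℕ, (t.1 ^ l).val i i = t.1.val i i ^ l := by
        intro l
        induction l with
        | zero => simp
        | succ l ih => rw [pow_succ, Matrix.SpecialLinearGroup.coe_mul, ht'.mul_apply, pow_succ, ← ih]; rfl
      have h1 : t.1.val i i ^ p ^ k = 1 := by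
        rw [← hpow, ← SubmonoidClass.coe_pow, hk]; simp
      have h2 : (t.1.val i i - 1) ^ p ^ k = 0 := by rw [sub_pow_char_pow, h1, one_pow, sub_self]
      exact sub_eq_zero.1 ((pow_eq_zero_iff (pow_ne_zero _ (Fact.out : p.Prime).ne_zero)).1 h2)
    · rw [one_apply_ne hij, ht'.zero (by simpa using hij)]
  have hP₀p : IsPGroup p P₀ := (isPGroup_U p).comap_subtype
  obtain ⟨S, hS⟩ := hP₀p.exists_le_sylow
  have hSeq : (S : Subgroup X) = P₀ := by
    by_contra hne
    have hlt : P₀.subgroupOf (S : Subgroup X) < ⊤ := by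
      refine lt_of_le_of_ne le_top fun he => hne (le_antisymm ?_ hS)
      exact Subgroup.subgroupOf_eq_top.1 he
    haveI : Group.IsNilpotent (S : Subgroup X) := S.isPGroup'.isNilpotent
    have hcond := normalizerCondition_of_isNilpotent (G := (S : Subgroup X)) _ hlt
    obtain ⟨z, hz, hzn⟩ := SetLike.exists_of_lt hcond
    have hzN : z.1 ∈ Subgroup.normalizer (P₀ : Set X) := Subgroup.mem_normalizer_fintype fun x hx =>
      (Subgroup.mem_normalizer_iff.1 hz ⟨x, hS hx⟩).1 hx
    obtain ⟨u, hu, t, ht, hzt⟩ := hnorm z.1 hzN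
    have htS : t ∈ (S : Subgroup X) := by
      rw [eq_inv_mul_of_mul_eq hzt.symm]
      exact Subgroup.mul_mem _ (Subgroup.inv_mem _ (hS hu)) z.2
    obtain ⟨k, hk⟩ := S.isPGroup' ⟨t, htS⟩
    rw [hTp t ht k (congrArg Subtype.val hk), mul_one] at hzt
    exact hzn (show z.1 ∈ P₀ from hzt ▸ hu)
  -- transport along the conjugation to `P`
  obtain ⟨a, ha⟩ := MulAction.exists_smul_eq X P S
  have hPS : (S : Subgroup X) = cj a (P : Subgroup X) := by rw [← ha]; rfl
  have hmain : Cfsg.IsPronormal (cj a H) := by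
    refine isPronormal_of_cells S T (fun x hx y hy => Subtype.ext (D_comm hx hy)) (hSeq ▸ hnorm) (hSeq ▸ hTN) ?_ _
      (hPS ▸ cj_mono a hPH)
    intro g
    obtain ⟨π, u, m, u', hu, hφu, hm, hφm, hu', hφu', he⟩ := exists_fixed hφ g.1 g.2
    refine ⟨⟨u, hφu⟩, hSeq ▸ hu, ⟨m, hφm⟩, ?_, ⟨u', hφu'⟩, hSeq ▸ hu', Subtype.ext he⟩
    refine Subgroup.mem_normalizer_fintype fun t ht => ?_
    have h2 := (hm.mul (ht : IsMono t.1.val 1)).mul hm.inv
    rw [mul_one, mul_inv_cancel] at h2
    exact h2
  rw [isPronormal_iff] at hmain ⊢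
  intro g
  obtain ⟨x, hx, hxe⟩ := hmain (a * g * a⁻¹)
  have e1 : ∀ y : X, cj (a * y * a⁻¹) (cj a H) = cj a (cj y H) := fun y => by
    rw [← cj_mul, ← cj_mul]; congr 1; group
  rw [e1] at hx hxe
  refine ⟨a⁻¹ * x * a, ?_, ?_⟩
  · have h3 : cj a H ⊔ cj a (cj g H) = cj a (H ⊔ cj g H) := (Subgroup.map_sup _ _ _).symm
    rw [h3, mem_cj] at hx
    exact hx
  · have h4 := congrArg (cj a⁻¹) hxe
    rwa [← cj_mul a⁻¹ a, inv_mul_cancel, cj_one, ← cj_mul, ← cj_mul] at h4

end CfsgLib.Pronormal.Bruhat
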