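import Cfsg.Agent.Lib.Pronormal.Bruhat
import Cfsg.Agent.Lib.Classical.UnitaryOrder

set_option autoImplicit false

/-!
# The characteristic two case for `SL_n` and `SU_n`
-/

namespace CfsgLib.Pronormal.EvenChar

open Matrix Cfsg CfsgLib.Classical.Unitri CfsgLib.Pronormal.Bruhat

variable {F : Type*} [Field F] [Finite F] {n : ℕ}

/-- The identity is compatible. -/
theorem compat_id : Compat (MonoidHom.id (Matrix.SpecialLinearGroup (Fin n) F)) where
  U_mem _ h := h
  mono _ π h := ⟨π, h⟩
  W_mem _ _ _ _ _ h := h
  root i j hij := ⟨Matrix.SpecialLinearGroup.transvection hij.ne 1, transvection_mem_U hij 1, rfl, by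
    rw [Matrix.SpecialLinearGroup.transvection_coe, Matrix.add_apply, one_apply_ne hij.ne, zero_add,
      single_apply_same]
    exact one_ne_zero⟩

theorem SL_even [CharP F 2] (H : Subgroup (Matrix.SpecialLinearGroup (Fin n) F)) (hH : Odd H.index) :
    Cfsg.IsPronormal H := by
  have := Fact.mk Nat.prime_two
  let L := (MonoidHom.id (Matrix.SpecialLinearGroup (Fin n) F)).eqLocus (MonoidHom.id _)
  have hf : Function.Surjective L.subtype := fun g => ⟨⟨g, rfl⟩, rfl⟩
  refine odd_index_pronormal_of_surjective hf (fun K hK => ?_) H hH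
  obtain ⟨P, hP⟩ := exists_sylow_le hK
  exact isPronormal_fixed 2 compat_id P K hP

variable {q : ℕ} (K : CfsgLib.ClassicalAut.Unitary.Conj F q)

/-- The twist by the antidiagonal hermitian form. -/
def twist : Matrix.SpecialLinearGroup (Fin n) F →* Matrix.SpecialLinearGroup (Fin n) F where
  toFun A := ⟨(((A⁻¹).val.map K.bar)ᵀ).submatrix Fin.revPerm Fin.revPerm, by
    rw [det_submatrix_equiv_self, det_transpose, ← RingEquiv.coe_toRingHom, ← RingHom.mapMatrix_apply,
      ← RingHom.map_det, (A⁻¹).2, map_one]⟩
  map_one' := Matrix.SpecialLinearGroup.ext _ _ fun i j => by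
    simp [Matrix.one_apply, eq_comm]
  map_mul' A B := Matrix.SpecialLinearGroup.ext _ _ fun i j => by
    simp only [_root_.mul_inv_rev, Matrix.SpecialLinearGroup.coe_mul, submatrix_apply, transpose_apply, map_apply,
      Matrix.mul_apply, map_sum, map_mul]
    exact Fintype.sum_equiv Fin.revPerm _ _ fun k => by simp [mul_comm]

theorem twist_apply (A : Matrix.SpecialLinearGroup (Fin n) F) (i j : Fin n) :
    (twist K A).val i j = K.bar ((A⁻¹).val j.rev i.rev) := rfl

theorem twist_twist (A : Matrix.SpecialLinearGroup (Fin n) F) : twist K (twist K A) = A := by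
  refine Matrix.SpecialLinearGroup.ext _ _ fun i j => ?_
  rw [twist_apply, ← map_inv, twist_apply, inv_inv, Fin.rev_rev, Fin.rev_rev, K.bar_bar]

/-- Conjugation of a permutation by the reversal. -/
def rp (π : Equiv.Perm (Fin n)) : Equiv.Perm (Fin n) := Fin.revPerm.trans (π.trans Fin.revPerm)

theorem rev_conj (π : Equiv.Perm (Fin n)) (j : Fin n) : rp π j = (π j.rev).rev := rfl

theorem twist_mono {m : Matrix.SpecialLinearGroup (Fin n) F} {π : Equiv.Perm (Fin n)} (hm : IsMono m.val π) :
    IsMono (twist K m).val (rp π) := by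
  intro i j
  rw [twist_apply, rev_conj, map_ne_zero K.bar, hm.inv _ _, Equiv.Perm.inv_def]
  constructor
  · intro h
    rw [h, Equiv.apply_symm_apply, Fin.rev_rev]
  · intro h
    rw [h, Fin.rev_rev, Equiv.symm_apply_apply]

theorem twist_compat [CharP F 2] (hn : Even n) : Compat (twist (n := n) K) where
  U_mem u hu := by
    intro i j hji
    have h := ((U n F).inv_mem hu : IsUnitri (u⁻¹).val) j.rev i.rev (Fin.rev_le_rev.2 hji)
    rw [twist_apply, h]
    by_cases hij : i = j
    · rw [if_pos hij, if_pos (by rw [hij]), map_one]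
    · rw [if_neg hij, if_neg (fun e => hij (Fin.rev_injective e).symm), map_zero]
  mono m π hm := ⟨_, twist_mono K hm⟩
  W_mem m π hm hfix u hu := by
    have hπ : rp π = π := by
      refine Equiv.ext fun j => ?_
      have h := ((twist_mono K hm) ((rp π) j) j).2 rfl
      rw [hfix] at h
      exact (hm _ _).1 h
    have hu' := mem_W.1 ((W π).inv_mem hu)
    refine mem_W.2 ⟨?_, fun i j hij hπij => ?_⟩
    · intro i j hji
      have h := hu'.1 j.rev i.rev (Fin.rev_le_rev.2 hji)
      rw [twist_apply, h]
      by_cases hij : i = j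
      · rw [if_pos hij, if_pos (by rw [hij]), map_one]
      · rw [if_neg hij, if_neg (fun e => hij (Fin.rev_injective e).symm), map_zero]
    · rw [twist_apply, hu'.2 j.rev i.rev (Fin.rev_lt_rev.2 hij) ?_, map_zero]
      have key : ∀ x, π.symm x.rev = (π.symm x).rev := fun x => by
        rw [Equiv.symm_apply_eq]
        have h := (congrArg (fun e : Equiv.Perm (Fin n) => e (π.symm x).rev) hπ).symm
        simp only [rev_conj, Fin.rev_rev, Equiv.apply_symm_apply] at h
        exact h.symm
      rw [key, key]
      exact Fin.rev_lt_rev.2 hπij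
  root i j hij := by
    have h2 : (-1 : F) = 1 := CharTwo.neg_eq 1
    have hne : ∀ x : Fin n, x ≠ x.rev := fun x h => by
      have := congrArg Fin.val h
      rw [Fin.val_rev] at this
      obtain ⟨c, hc⟩ := hn
      have := x.2
      omega
    set t : Matrix.SpecialLinearGroup (Fin n) F := Matrix.SpecialLinearGroup.transvection hij.ne (1 : F) with ht
    have hrev : j.rev < i.rev := Fin.rev_lt_rev.2 hij
    have htt : twist K t = Matrix.SpecialLinearGroup.transvection hrev.ne 1 := by
      have hinv : t⁻¹ = t := inv_eq_of_mul_eq_one_right (Matrix.SpecialLinearGroup.ext _ _ fun a b => by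
        simp only [ht, Matrix.SpecialLinearGroup.coe_mul, Matrix.SpecialLinearGroup.transvection_coe, add_mul, mul_add,
          mul_one, one_mul, single_mul_single_of_ne _ _ _ _ hij.ne', add_zero,
          Matrix.SpecialLinearGroup.coe_one, Matrix.add_apply]
        rw [add_assoc, CharTwo.add_self_eq_zero, add_zero])
      refine Matrix.SpecialLinearGroup.ext _ _ fun a b => ?_
      rw [twist_apply, hinv, ht, Matrix.SpecialLinearGroup.transvection_coe, Matrix.SpecialLinearGroup.transvection_coe,
        Matrix.add_apply, Matrix.add_apply, map_add]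
      congr 1
      · simp [Matrix.one_apply, eq_comm]
      · simp only [Matrix.single_apply]
        rw [apply_ite K.bar, map_one, map_zero]
        refine if_congr ⟨fun h => ⟨?_, ?_⟩, fun h => ⟨?_, ?_⟩⟩ rfl rfl
        all_goals first
          | exact Fin.rev_eq_iff.1 h.1.symm | exact Fin.rev_eq_iff.1 h.2.symm
          | exact Fin.rev_eq_iff.1 h.1 | exact Fin.rev_eq_iff.1 h.2
          | rw [h.1, Fin.rev_rev] | rw [h.2, Fin.rev_rev]
    by_cases hr : i = j.rev
    · refine ⟨t, transvection_mem_U hij 1, ?_, ?_⟩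
      · rw [htt]
        refine Matrix.SpecialLinearGroup.ext _ _ fun a b => ?_
        rw [ht, Matrix.SpecialLinearGroup.transvection_coe, Matrix.SpecialLinearGroup.transvection_coe, ← hr,
          show i.rev = j by rw [hr, Fin.rev_rev]]
      · rw [ht, Matrix.SpecialLinearGroup.transvection_coe, Matrix.add_apply, one_apply_ne hij.ne, zero_add,
          single_apply_same]
        exact one_ne_zero
    · refine ⟨t * twist K t, (U n F).mul_mem (transvection_mem_U hij 1) (htt ▸ transvection_mem_U hrev 1), ?_, ?_⟩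
      · rw [map_mul, twist_twist, htt]
        refine Matrix.SpecialLinearGroup.ext _ _ fun a b => ?_
        rw [ht]
        simp only [Matrix.SpecialLinearGroup.coe_mul, Matrix.SpecialLinearGroup.transvection_coe, add_mul, mul_add,
          mul_one, one_mul, single_mul_single_of_ne _ _ _ _ (hne i).symm, single_mul_single_of_ne _ _ _ _ (hne j),
          add_zero, Matrix.add_apply]
        abel
      · rw [htt, ht]
        simp only [Matrix.SpecialLinearGroup.coe_mul, Matrix.SpecialLinearGroup.transvection_coe, add_mul, mul_add,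
          mul_one, one_mul, single_mul_single_of_ne _ _ _ _ (hne j), add_zero, Matrix.add_apply]
        rw [one_apply_ne hij.ne, single_apply_same, single_apply_of_ne _ _ _ _ _ (fun h => hr h.1.symm)]
        simp only [zero_add, add_zero]
        exact one_ne_zero

/-- The antidiagonal matrix. -/
def anti (n : ℕ) (F : Type*) [Zero F] [One F] : Matrix (Fin n) (Fin n) F :=
  Matrix.of fun i j => if j = i.rev then 1 else 0

theorem mem_fixed {g : Matrix.SpecialLinearGroup (Fin n) F} :
    twist K g = g ↔ g.valᵀ * anti n F * g.val.map K.bar = anti n F := by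
  have hJ : ∀ (A : Matrix (Fin n) (Fin n) F) i j, (A * anti n F) i j = A i j.rev := fun A i j => by
    rw [Matrix.mul_apply, Finset.sum_eq_single j.rev]
    · simp [anti]
    · intro k _ hk; simp only [anti, of_apply]; rw [if_neg (fun e => hk (by rw [e, Fin.rev_rev])), mul_zero]
    · simp
  have hJ' : ∀ (A : Matrix (Fin n) (Fin n) F) i j, (anti n F * A) i j = A i.rev j := fun A i j => by
    rw [Matrix.mul_apply, Finset.sum_eq_single i.rev]
    · simp [anti]
    · intro k _ hk; simp only [anti, of_apply]; rw [if_neg hk, zero_mul]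
    · simp
  have hinv : ∀ M : Matrix (Fin n) (Fin n) F, g.valᵀ * M = anti n F ↔ M = (g⁻¹).valᵀ * anti n F := by
    intro M
    have h1 : g.valᵀ * (g⁻¹).valᵀ = 1 := by
      rw [← transpose_mul, ← Matrix.SpecialLinearGroup.coe_mul, inv_mul_cancel, Matrix.SpecialLinearGroup.coe_one,
        transpose_one]
    have h2 : (g⁻¹).valᵀ * g.valᵀ = 1 := by
      rw [← transpose_mul, ← Matrix.SpecialLinearGroup.coe_mul, mul_inv_cancel, Matrix.SpecialLinearGroup.coe_one,
        transpose_one]
    exact ⟨fun h => by rw [← h, ← mul_assoc, h2, one_mul], fun h => by rw [h, ← mul_assoc, h1, one_mul]⟩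
  rw [Matrix.mul_assoc, hinv, Matrix.SpecialLinearGroup.ext_iff, ← Matrix.ext_iff]
  simp only [twist_apply, hJ, hJ', transpose_apply, map_apply]
  constructor
  · intro h i j
    have h2 := congrArg K.bar (h i.rev j)
    rw [K.bar_bar, Fin.rev_rev] at h2
    exact h2.symm
  · intro h i j
    have h2 := congrArg K.bar (h i.rev j)
    rw [K.bar_bar, Fin.rev_rev] at h2
    exact h2.symm

include K in
theorem SU_even [Fintype F] [CharP F 2] (hn : Even n) (H : Subgroup (SU n F q)) (hH : Odd H.index) :
    Cfsg.IsPronormal H := by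
  have := Fact.mk Nat.prime_two
  obtain ⟨y, hy⟩ : ∃ y : F, y + K.bar y = 1 := by
    obtain ⟨z, hz⟩ := K.exists_trace
    refine ⟨z / (z + K.bar z), ?_⟩
    rw [map_div₀, map_add, K.bar_bar, add_comm (K.bar z) z, ← add_div, div_self hz]
  set J := anti n F
  set M : Matrix (Fin n) (Fin n) F := Matrix.of fun i j =>
    if i = j then (if j < j.rev then 1 else y + 1) else if i = j.rev then (if j < j.rev then 1 else y) else 0 with hMdef
  have hne : ∀ x : Fin n, x ≠ x.rev := fun x h => by
    have := congrArg Fin.val h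
    rw [Fin.val_rev] at this
    obtain ⟨c, hc⟩ := hn
    have := x.2
    omega
  have hbar : K.bar y = 1 + y := by linear_combination hy - (CharTwo.add_self_eq_zero y)
  have h20 : (2 : F) = 0 := CharP.cast_eq_zero F 2
  have hMJ : Mᵀ * M.map K.bar = J := by
    ext i j
    rw [Matrix.mul_apply, ← Finset.sum_subset (Finset.subset_univ ({i, i.rev} : Finset (Fin n))) (fun k _ hk => by
        simp only [Finset.mem_insert, Finset.mem_singleton, not_or] at hk
        simp [hMdef, hk.1, hk.2]), Finset.sum_pair (hne i)]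
    simp only [J, anti, of_apply, transpose_apply, map_apply, hMdef, if_neg (hne i).symm]
    by_cases hji : j = i
    · subst hji
      simp only [if_neg (hne j), if_neg (hne j).symm, if_true]
      split_ifs <;> simp only [map_one, map_add, hbar, one_mul, mul_one]
      · exact CharTwo.add_self_eq_zero 1
      · linear_combination (y + 1 + y * y + y) * h20
    by_cases hjr : j = i.rev
    · subst hjr
      simp only [Fin.rev_rev, if_neg (hne i), if_neg (hne i).symm, if_true]
      rcases lt_or_gt_of_ne (hne i) with h | h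
      · simp only [if_pos h, if_neg (not_lt.2 h.le), map_one, map_add, hbar, one_mul, mul_one]
        linear_combination (1 + y) * h20
      · simp only [if_neg (not_lt.2 h.le), if_pos h, map_one, mul_one]
        linear_combination y * h20
    have h1 : ¬ i = j.rev := fun e => hjr (by rw [e, Fin.rev_rev])
    have h3 : ¬ i.rev = j := fun e => hjr e.symm
    have h4 : ¬ i.rev = j.rev := fun e => hji (Fin.rev_injective e).symm
    simp only [if_neg (Ne.symm hji), if_neg h1, if_neg h3, if_neg h4, map_zero, mul_zero, add_zero, if_neg hjr]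
  have hMdet : M.det ≠ 0 := by
    intro h
    have h1 := congrArg Matrix.det hMJ
    rw [det_mul, det_transpose, h, zero_mul] at h1
    have hJ2 : J * J = 1 := by
      ext i j
      rw [Matrix.mul_apply, Finset.sum_eq_single i.rev]
      · simp [J, anti, Matrix.one_apply, eq_comm]
      · intro k _ hk; simp [J, anti, hk]
      · simp
    have h2 := congrArg Matrix.det hJ2
    rw [det_mul, ← h1, zero_mul, det_one] at h2
    exact zero_ne_one h2
  let X := (twist (n := n) K).eqLocus (MonoidHom.id _)
  have hmem : ∀ g : Matrix.SpecialLinearGroup (Fin n) F, g ∈ SU n F q ↔ g.valᵀ * g.val.map K.bar = 1 :=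
    fun g => CfsgLib.ClassicalAut.Unitary.form_iff K
  have hu : IsUnit M.det := isUnit_iff_ne_zero.2 hMdet
  let f : X →* SU n F q :=
    { toFun := fun g => ⟨⟨M * g.1.val * M⁻¹, by
          rw [det_mul, det_mul, g.1.2, mul_one, det_nonsing_inv, Ring.mul_inverse_cancel _ hu]⟩, by
        refine (hmem _).2 ?_
        have hg := (mem_fixed K).1 g.2
        show (M * g.1.val * M⁻¹)ᵀ * (M * g.1.val * M⁻¹).map K.bar = 1
        have hmap : (M * g.1.val * M⁻¹).map K.bar = M.map K.bar * g.1.val.map K.bar * (M⁻¹).map K.bar := by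
          rw [Matrix.map_mul, Matrix.map_mul]
        have hMM : M.map K.bar * (M⁻¹).map K.bar = 1 := by
          rw [← Matrix.map_mul, mul_nonsing_inv _ hu, Matrix.map_one _ (map_zero _) (map_one _)]
        rw [hmap, transpose_mul, transpose_mul]
        calc (M⁻¹)ᵀ * (g.1.valᵀ * Mᵀ) * (M.map K.bar * g.1.val.map K.bar * (M⁻¹).map K.bar)
            = (M⁻¹)ᵀ * (g.1.valᵀ * (Mᵀ * M.map K.bar) * g.1.val.map K.bar) * (M⁻¹).map K.bar := by
              simp only [Matrix.mul_assoc]
          _ = (M⁻¹)ᵀ * Mᵀ * (M.map K.bar * (M⁻¹).map K.bar) := by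
              rw [hMJ, hg]; show _ * J * _ = _; rw [← hMJ]; simp only [Matrix.mul_assoc]
          _ = 1 := by rw [hMM, mul_one, ← transpose_mul, mul_nonsing_inv _ hu, transpose_one]⟩
      map_one' := Subtype.ext (Subtype.ext (by simp [mul_nonsing_inv _ hu]))
      map_mul' := fun g g' => Subtype.ext (Subtype.ext (by
        show M * (g.1.val * g'.1.val) * M⁻¹ = M * g.1.val * M⁻¹ * (M * g'.1.val * M⁻¹)
        simp only [Matrix.mul_assoc]
        rw [← Matrix.mul_assoc M⁻¹ M, nonsing_inv_mul _ hu, one_mul])) }
  have hf : Function.Surjective f := by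
    intro h
    have hh := (hmem h.1).1 h.2
    refine ⟨⟨⟨M⁻¹ * h.1.val * M, by
      rw [det_mul, det_mul, h.1.2, mul_one, det_nonsing_inv, Ring.inverse_mul_cancel _ hu]⟩, ?_⟩, ?_⟩
    · refine (mem_fixed K).2 ?_
      show (M⁻¹ * h.1.val * M)ᵀ * J * (M⁻¹ * h.1.val * M).map K.bar = J
      have hMM : M.map K.bar * (M⁻¹).map K.bar = 1 := by
        rw [← Matrix.map_mul, mul_nonsing_inv _ hu, Matrix.map_one _ (map_zero _) (map_one _)]
      have hMMt : (M⁻¹)ᵀ * Mᵀ = 1 := by rw [← transpose_mul, mul_nonsing_inv _ hu, transpose_one]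
      conv_lhs => rw [← hMJ, Matrix.map_mul, Matrix.map_mul, transpose_mul, transpose_mul]
      calc Mᵀ * (h.1.valᵀ * (M⁻¹)ᵀ) * (Mᵀ * M.map K.bar) * ((M⁻¹).map K.bar * h.1.val.map K.bar * M.map K.bar)
          = Mᵀ * h.1.valᵀ * ((M⁻¹)ᵀ * Mᵀ) * (M.map K.bar * (M⁻¹).map K.bar) * (h.1.val.map K.bar * M.map K.bar) := by
            simp only [Matrix.mul_assoc]
        _ = Mᵀ * (h.1.valᵀ * h.1.val.map K.bar) * M.map K.bar := by
            rw [hMMt, hMM, mul_one, mul_one]; simp only [Matrix.mul_assoc]
        _ = J := by rw [hh, mul_one, hMJ]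
    · refine Subtype.ext (Subtype.ext ?_)
      show M * (M⁻¹ * h.1.val * M) * M⁻¹ = h.1.val
      rw [← Matrix.mul_assoc, ← Matrix.mul_assoc, mul_nonsing_inv _ hu, one_mul, Matrix.mul_assoc,
        mul_nonsing_inv _ hu, mul_one]
  refine odd_index_pronormal_of_surjective hf (fun L hL => ?_) H hH
  obtain ⟨P, hP⟩ := exists_sylow_le hL
  exact isPronormal_fixed 2 (twist_compat K hn) P L hP

end CfsgLib.Pronormal.EvenChar
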