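import Cfsg.Agent.Lib.Pronormal.Basic
import Cfsg.Agent.S2431

set_option autoImplicit false

/-!
# Odd index subgroups of `SL₂(q)`, `q` odd, are pronormal
-/

namespace CfsgLib.Pronormal.SLTwo

open Matrix CfsgLib.SL2
open scoped MatrixGroups

variable {F : Type*} [Field F] [Finite F]

theorem two_mul_not_dvd {q : ℕ} (h8 : q % 8 = 3 ∨ q % 8 = 5) : ¬ 2 ^ 4 ∣ q * ((q - 1) * (q + 1)) := by
  have hodd : ¬ 2 ∣ q := by omega
  intro h
  have h1 : 2 ^ 4 ∣ (q - 1) * (q + 1) :=
    (Nat.Coprime.pow_left 4 (Nat.coprime_two_left.2 (Nat.odd_iff.2 (by omega)))).dvd_of_dvd_mul_left h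
  rcases h8 with h8 | h8
  · obtain ⟨t, rfl⟩ : ∃ t, q = 8 * t + 3 := ⟨q / 8, by omega⟩
    rw [show 8 * t + 3 - 1 = 8 * t + 2 by omega,
      show (8 * t + 2) * (8 * t + 3 + 1) = 8 * (2 * (4 * (t * t) + 3 * t) + 1) by ring] at h1
    omega
  · obtain ⟨t, rfl⟩ : ∃ t, q = 8 * t + 5 := ⟨q / 8, by omega⟩
    rw [show 8 * t + 5 - 1 = 8 * t + 4 by omega,
      show (8 * t + 4) * (8 * t + 5 + 1) = 8 * (2 * (4 * (t * t) + 5 * t + 1) + 1) by ring] at h1
    omega

theorem neg_one_comm (x : SL(2, F)) : (-1 : SL(2, F)) * x = x * -1 := by simp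

theorem commute_of_odd {x v : SL(2, F)} (ho : Odd (orderOf x)) (h : x * v = v * x ∨ x * v = -(v * x)) :
    x * v = v * x := by
  rcases h with h | h
  · exact h
  · obtain ⟨l, hl⟩ := exists_pow_eq_self_of_coprime (x := x) (n := 2) (Nat.coprime_two_left.2 ho)
    have h2 : Commute (x ^ 2) v := by
      show x ^ 2 * v = v * x ^ 2
      rw [sq, mul_assoc, h, mul_neg, ← mul_assoc, h, neg_mul, neg_neg, mul_assoc]
    rw [← hl]
    exact h2.pow_left l

/-- `±1`. -/
def Zset (x : SL(2, F)) : Prop := x = 1 ∨ x = -1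

theorem not_zset_iff {x : SL(2, F)} : ¬ Zset x ↔ NonScalar (x : Matrix (Fin 2) (Fin 2) F) := by
  constructor
  · intro h
    by_contra hn
    rcases eq_one_or_eq_neg_one_of_mem_center x ((mem_center_iff_not_nonScalar x).mpr hn) with e | e
    · exact h (Or.inl e)
    · exact h (Or.inr e)
  · intro hn h
    have hc : x ∈ Subgroup.center SL(2, F) := by
      rcases h with rfl | rfl
      · exact Subgroup.one_mem _
      · exact neg_one_mem_center
    exact (mem_center_iff_not_nonScalar x).mp hc hn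

/-- The key lemma: a non-central element sent by two anticommuting elements into its centraliser. -/
theorem exists_commuting (h2 : (2 : F) ≠ 0) {x v w : SL(2, F)} (hv : v * v = -1) (hw : w * w = -1)
    (hvw : v * w = -(w * v)) (hx : ¬ Zset x) (hcv : v * x * v⁻¹ ∈ cent x) (hcw : w * x * w⁻¹ ∈ cent x) :
    Regular x ∧ ∃ u, (u = v ∨ u = w ∨ u = v * w) ∧ u ∈ cent x := by
  have hvw2 : v * w * (v * w) = -1 := by
    nth_rewrite 2 [hvw]
    rw [mul_neg, mul_assoc v w, ← mul_assoc w w, hw, neg_mul, one_mul, mul_neg, neg_neg, hv]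
  by_cases hreg : Regular x
  · refine ⟨hreg, ?_⟩
    rcases eq_or_eq_inv_of_trace hreg hcv (trace_conj v x) with h | h
    · exact ⟨v, Or.inl rfl, mem_cent_iff.mpr (mul_inv_eq_iff_eq_mul.mp h).symm⟩
    rcases eq_or_eq_inv_of_trace hreg hcw (trace_conj w x) with h' | h'
    · exact ⟨w, Or.inr (Or.inl rfl), mem_cent_iff.mpr (mul_inv_eq_iff_eq_mul.mp h').symm⟩
    refine ⟨v * w, Or.inr (Or.inr rfl), mem_cent_iff.mpr ?_⟩
    have : v * w * x * (v * w)⁻¹ = x := by
      rw [show v * w * x * (v * w)⁻¹ = v * (w * x * w⁻¹) * v⁻¹ by group, h',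
        show v * x⁻¹ * v⁻¹ = (v * x * v⁻¹)⁻¹ by group, h, inv_inv]
    exact (mul_inv_eq_iff_eq_mul.mp this).symm
  · exfalso
    simp only [Regular, ne_eq, not_not] at hreg
    set X : Matrix (Fin 2) (Fin 2) F := (x : Matrix (Fin 2) (Fin 2) F) with hX
    have hns : NonScalar X := not_zset_iff.1 hx
    -- the nilpotent part
    set e := X.trace / 2 with he
    set N := X - e • (1 : Matrix (Fin 2) (Fin 2) F) with hN
    have he2 : X.trace = 2 * e := by rw [he, mul_div_cancel₀ _ h2]
    have he1 : e * e = 1 := by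
      refine mul_left_cancel₀ (mul_ne_zero h2 h2) ?_
      rw [he2] at hreg
      linear_combination hreg
    have hXN : X = e • 1 + N := by rw [hN]; abel
    clear_value e N
    have hN0 : N ≠ 0 := fun h => hns e (by rw [hXN, h, add_zero])
    have hN2 : N * N = 0 := by
      have hc := SL2.cayley X
      rw [show X.det = 1 from x.2, he2, one_smul, hXN] at hc
      simp only [add_mul, mul_add, smul_mul_assoc, mul_smul_comm, one_mul, mul_one, smul_add, smul_smul] at hc
      have h3 : N * N = (2 * e * e) • (1 : Matrix (Fin 2) (Fin 2) F) - 1 - (e * e) • (1 : Matrix (Fin 2) (Fin 2) F) := by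
        rw [show (2 : F) * e = e + e by ring] at hc
        rw [show (2 : F) * e * e = (e + e) * e by ring]
        simp only [add_smul, add_mul] at hc ⊢
        linear_combination (norm := module) hc
      rw [h3, show (2 : F) * e * e = 2 by rw [mul_assoc, he1, mul_one], he1, one_smul, two_smul]
      abel
    have hsc : ∀ u : SL(2, F), u * u = -1 → u * x * u⁻¹ ∈ cent x →
        ∃ b : F, (b = 1 ∨ b = -1) ∧ (u : Matrix (Fin 2) (Fin 2) F) * N = b • (N * (u : Matrix (Fin 2) (Fin 2) F)) := by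
      intro u hu hcu
      obtain ⟨a, b, hab, -⟩ := exists_coords hns hcu
      have hu' : ((u * x * u⁻¹ : SL(2, F)) : Matrix (Fin 2) (Fin 2) F) * (u : Matrix (Fin 2) (Fin 2) F) =
          (u : Matrix (Fin 2) (Fin 2) F) * X := by
        rw [← Matrix.SpecialLinearGroup.coe_mul, inv_mul_cancel_right, Matrix.SpecialLinearGroup.coe_mul]
      rw [hab] at hu'
      have key : (u : Matrix (Fin 2) (Fin 2) F) * N =
          (a + b * e - e) • (u : Matrix (Fin 2) (Fin 2) F) + b • (N * (u : Matrix (Fin 2) (Fin 2) F)) := by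
        rw [← hX, hXN] at hu'
        simp only [add_mul, mul_add, smul_mul_assoc, mul_smul_comm, one_mul, mul_one, smul_add, smul_smul] at hu'
        linear_combination (norm := module) -hu'
      set U := (u : Matrix (Fin 2) (Fin 2) F)
      set c := a + b * e - e
      -- squaring kills the scalar
      have hc0 : c = 0 := by
        have h4 : U * N * N = c • (U * N) + b • (N * (U * N)) := by
          conv_lhs => rw [key]
          simp only [add_mul, smul_mul_assoc, Matrix.mul_assoc]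
        rw [Matrix.mul_assoc, hN2, mul_zero] at h4
        by_contra hc
        have h5 : U * N = (-(b / c)) • (N * (U * N)) := by
          have : c • (U * N) = -(b • (N * (U * N))) := eq_neg_of_add_eq_zero_left h4.symm
          conv_lhs => rw [← inv_smul_smul₀ hc (U * N), this, smul_neg, smul_smul, ← neg_smul]
          congr 1
          ring
        have h6 : N * (U * N) = 0 := by
          conv_lhs => rw [h5]
          rw [mul_smul_comm, ← Matrix.mul_assoc, hN2, zero_mul, smul_zero]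
        rw [h6, smul_zero] at h5
        have hUi : ((u⁻¹ : SL(2, F)) : Matrix (Fin 2) (Fin 2) F) * U = 1 := by
          rw [← Matrix.SpecialLinearGroup.coe_mul, inv_mul_cancel, Matrix.SpecialLinearGroup.coe_one]
        exact hN0 (by rw [← one_mul N, ← hUi, Matrix.mul_assoc, h5, mul_zero])
      rw [hc0, zero_smul, zero_add] at key
      refine ⟨b, ?_, key⟩
      have hU2 : U * U = -1 := by
        rw [← Matrix.SpecialLinearGroup.coe_mul, hu]; simp
      have h7 : U * (U * N) = (b * b) • (N * (U * U)) := by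
        rw [key, mul_smul_comm, ← Matrix.mul_assoc, key, smul_mul_assoc, smul_smul, Matrix.mul_assoc]
      rw [← Matrix.mul_assoc, hU2, neg_one_mul, mul_neg_one, smul_neg, neg_inj] at h7
      have hb : b * b = 1 := by
        by_contra hb
        refine hN0 ?_
        have : (1 - b * b) • N = 0 := by rw [sub_smul, one_smul, ← h7, sub_self]
        exact (smul_eq_zero.1 this).resolve_left (sub_ne_zero.2 (Ne.symm hb))
      exact mul_self_eq_one_iff.1 hb
    obtain ⟨bv, hbv, hv'⟩ := hsc v hv hcv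
    obtain ⟨bw, hbw, hw'⟩ := hsc w hw hcw
    obtain ⟨u, hu2, huN⟩ : ∃ u : SL(2, F), u * u = -1 ∧
        (u : Matrix (Fin 2) (Fin 2) F) * N = N * (u : Matrix (Fin 2) (Fin 2) F) := by
      rcases hbv with rfl | rfl
      · exact ⟨v, hv, by rw [hv', one_smul]⟩
      rcases hbw with rfl | rfl
      · exact ⟨w, hw, by rw [hw', one_smul]⟩
      refine ⟨v * w, hvw2, ?_⟩
      rw [Matrix.SpecialLinearGroup.coe_mul, Matrix.mul_assoc, hw', mul_smul_comm, ← Matrix.mul_assoc, hv',
        smul_mul_assoc, smul_smul, Matrix.mul_assoc]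
      simp
    have hcu : u ∈ cent x := by
      rw [mem_cent_iff]
      refine Subtype.ext ?_
      rw [Matrix.SpecialLinearGroup.coe_mul, Matrix.SpecialLinearGroup.coe_mul, ← hX, hXN]
      simp only [add_mul, mul_add, smul_mul_assoc, mul_smul_comm, one_mul, mul_one, huN]
    obtain ⟨a, b, hab, -⟩ := exists_coords hns hcu
    have hU2 : (u : Matrix (Fin 2) (Fin 2) F) * (u : Matrix (Fin 2) (Fin 2) F) = -1 := by
      rw [← Matrix.SpecialLinearGroup.coe_mul, hu2]; simp
    have hU : (u : Matrix (Fin 2) (Fin 2) F) = (a + b * e) • 1 + b • N := by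
      rw [hab, ← hX, hXN]; module
    rw [hU] at hU2
    simp only [add_mul, mul_add, smul_mul_assoc, mul_smul_comm, one_mul, mul_one, hN2, smul_zero, add_zero, smul_smul] at hU2
    set a' := a + b * e
    have hlin : (a' * a' + 1) • (1 : Matrix (Fin 2) (Fin 2) F) + (2 * a' * b) • N = 0 := by
      linear_combination (norm := module) hU2
    have hb0 : a' * a' + 1 = 0 ∧ 2 * a' * b = 0 := by
      have h8 := congrArg (fun M => N * M) hlin
      simp only [mul_add, mul_smul_comm, mul_one, hN2, smul_zero, add_zero, mul_zero] at h8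
      have h9 := (smul_eq_zero.1 h8).resolve_right hN0
      rw [h9, zero_smul, zero_add] at hlin
      exact ⟨h9, (smul_eq_zero.1 hlin).resolve_right hN0⟩
    have ha0 : a' ≠ 0 := fun h => by
      rw [h] at hb0
      simp at hb0
    have hb : b = 0 := (mul_eq_zero.1 hb0.2).resolve_left (mul_ne_zero h2 ha0)
    rw [hb, zero_smul, add_zero] at hU
    have hdet : (u : Matrix (Fin 2) (Fin 2) F).det = 1 := u.2
    rw [hU, det_smul, det_one, mul_one, Fintype.card_fin] at hdet
    exact h2 (by linear_combination hb0.1 - hdet)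

set_option maxHeartbeats 2000000 in
/-- An odd index subgroup of `SL₂(q)`, `q` odd, is pronormal. -/
theorem odd_index_pronormal [Fintype F] (hodd : Odd (Fintype.card F)) (H : Subgroup SL(2, F)) (hH : Odd H.index) :
    Cfsg.IsPronormal H := by
  have := Fact.mk Nat.prime_two
  obtain ⟨S, hSH⟩ := exists_sylow_le hH
  obtain ⟨hC, hN1, hN3⟩ := Cfsg.Agent.S2431.result hodd S
  set q := Fintype.card F with hq
  have hq2 : q % 2 = 1 := Nat.odd_iff.1 hodd
  by_cases h17 : q % 8 = 1 ∨ q % 8 = 7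
  · exact isPronormal_of_normalizer_le S hSH ((hN1 h17).le.trans hSH)
  have h35 : q % 8 = 3 ∨ q % 8 = 5 := by omega
  specialize hN3 h35
  have hodd' : Odd (Nat.card F) := by rwa [Nat.card_eq_fintype_card]
  have h2 : (2 : F) ≠ 0 := odd_card_two_ne_zero hodd'
  have hne1 : (-1 : SL(2, F)) ≠ 1 := neg_one_ne_one h2
  -- the quaternion group
  have hQnc : ¬ ∀ s ∈ (S : Subgroup SL(2, F)), ∀ t ∈ (S : Subgroup SL(2, F)), s * t = t * s := by
    intro hc
    obtain ⟨k, -, ⟨e⟩⟩ := sylow_two_quaternion hodd' S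
    have h := congrArg e (Subtype.ext (hc _ (e.symm (QuaternionGroup.a 1)).2 _ (e.symm (QuaternionGroup.xa 0)).2) :
      e.symm (QuaternionGroup.a 1) * e.symm (QuaternionGroup.xa 0) =
        e.symm (QuaternionGroup.xa 0) * e.symm (QuaternionGroup.a 1))
    rw [map_mul, map_mul, e.apply_symm_apply, e.apply_symm_apply, QuaternionGroup.a_mul_xa, QuaternionGroup.xa_mul_a,
      QuaternionGroup.xa.injEq] at h
    have hk1 : 1 ≤ 2 ^ k := Nat.one_le_two_pow
    have h2' : ((2 : ℕ) : ZMod (2 * 2 ^ k)) = 0 := by push_cast; linear_combination -h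
    rw [ZMod.natCast_eq_zero_iff] at h2'
    have hle := Nat.le_of_dvd two_pos h2'
    have h4 : 4 * 2 ^ k ∣ q * ((q - 1) * (q + 1)) := by
      rw [hq, ← Nat.card_eq_fintype_card (α := F), ← card_SL_two']
      have := Subgroup.card_subgroup_dvd_card (S : Subgroup SL(2, F))
      rwa [Nat.card_congr e.toEquiv, Nat.card_eq_fintype_card, QuaternionGroup.card] at this
    have hk0 : 2 ^ k = 1 := by omega
    have hdvd : 2 ^ 3 ∣ Nat.card SL(2, F) := by
      rw [card_SL_two', Nat.card_eq_fintype_card, ← hq]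
      refine Dvd.dvd.mul_left ?_ q
      rcases h35 with h | h
      · obtain ⟨t, ht⟩ : 4 ∣ q + 1 := by omega
        obtain ⟨t', ht'⟩ : 2 ∣ q - 1 := by omega
        exact ⟨t' * t, by rw [ht, ht']; ring⟩
      · obtain ⟨t, ht⟩ : 2 ∣ q + 1 := by omega
        obtain ⟨t', ht'⟩ : 4 ∣ q - 1 := by omega
        exact ⟨t' * t, by rw [ht, ht']; ring⟩
    have := S.pow_dvd_card_of_pow_dvd_card hdvd
    rw [Nat.card_congr e.toEquiv, Nat.card_eq_fintype_card, QuaternionGroup.card, hk0] at this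
    norm_num at this
  have hS8 : Nat.card (S : Subgroup SL(2, F)) = 8 := by
    obtain ⟨i, hi⟩ := S.isPGroup'.exists_card_eq
    have h3 : i ≤ 3 := by
      by_contra hc
      refine two_mul_not_dvd h35 ?_
      rw [hq, ← Nat.card_eq_fintype_card (α := F), ← card_SL_two']
      exact ((pow_dvd_pow 2 (by omega : 4 ≤ i)).trans (hi ▸ dvd_rfl)).trans
        (Subgroup.card_subgroup_dvd_card (S : Subgroup SL(2, F)))
    by_contra hc
    have hi2 : i ≤ 2 := by
      by_contra h'
      obtain rfl : i = 3 := by omega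
      exact hc hi
    refine hQnc fun s hs t ht => ?_
    have hcomm : IsMulCommutative (S : Subgroup SL(2, F)) := by
      interval_cases i
      · have : Subsingleton (S : Subgroup SL(2, F)) := (Nat.card_eq_one_iff_unique.1 hi).1
        exact ⟨⟨fun a b => Subsingleton.elim _ _⟩⟩
      · have : IsCyclic (S : Subgroup SL(2, F)) := isCyclic_of_prime_card (hi.trans (pow_one 2))
        exact IsCyclic.isMulCommutative
      · exact ⟨⟨(IsPGroup.commutative_of_card_eq_prime_sq hi)⟩⟩
    exact congrArg Subtype.val (hcomm.is_comm.comm ⟨s, hs⟩ ⟨t, ht⟩)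
  have hsq : ∀ s ∈ (S : Subgroup SL(2, F)), ¬ Zset s → s * s = -1 := by
    intro s hs hns
    have hd : orderOf s ∣ 2 ^ 3 := by
      have := Subgroup.orderOf_dvd_natCard (S : Subgroup SL(2, F)) hs
      rwa [hS8] at this
    obtain ⟨j, hj, hoj⟩ := (Nat.dvd_prime_pow Nat.prime_two).1 hd
    have hj2 : j ≤ 2 := by
      by_contra hc
      obtain rfl : j = 3 := by omega
      refine hQnc fun a ha b hb => ?_
      have heq : Subgroup.zpowers s = (S : Subgroup SL(2, F)) :=
        Subgroup.eq_of_le_of_card_ge (Subgroup.zpowers_le.2 hs) (by rw [Nat.card_zpowers, hoj, hS8]; norm_num)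
      rw [← heq] at ha hb
      obtain ⟨m, rfl⟩ := ha
      obtain ⟨m', rfl⟩ := hb
      exact (Commute.refl s).zpow_zpow m m'
    have h4 : s ^ (2 ^ 2) = 1 := orderOf_dvd_iff_pow_eq_one.1 (hoj ▸ pow_dvd_pow 2 hj2)
    refine eq_neg_one_of_mul_self h2 (by rw [← h4, show (2 : ℕ) ^ 2 = 4 from rfl]; simp only [pow_succ, pow_zero, one_mul, mul_assoc]) ?_
    intro h1
    by_cases hs1 : s = 1
    · exact hns (Or.inl hs1)
    · exact hns (Or.inr (eq_neg_one_of_mul_self h2 h1 hs1))
  have hinvneg : ∀ s : SL(2, F), s * s = -1 → s⁻¹ = -s := fun s h =>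
    inv_eq_of_mul_eq_one_right (by rw [mul_neg, h, neg_neg])
  have hanti : ∀ s ∈ (S : Subgroup SL(2, F)), ∀ t ∈ (S : Subgroup SL(2, F)), s * t = t * s ∨ s * t = -(t * s) := by
    intro s hs t ht
    by_cases h1 : Zset s
    · rcases h1 with rfl | rfl <;> left <;> simp
    by_cases h2' : Zset t
    · rcases h2' with rfl | rfl <;> left <;> simp
    by_cases h3 : Zset (s * t)
    · left
      have e : t = s⁻¹ * (s * t) := by group
      rcases h3 with h3 | h3 <;> rw [h3] at e <;> rw [e] <;> simp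
    · right
      have e : (s * t)⁻¹ = -(s * t) := hinvneg _ (hsq _ (Subgroup.mul_mem _ hs ht) h3)
      rw [_root_.mul_inv_rev, hinvneg s (hsq s hs h1), hinvneg t (hsq t ht h2'), neg_mul_neg] at e
      rw [e, neg_neg]
  have hmone : (-1 : SL(2, F)) ∈ (S : Subgroup SL(2, F)) := by
    have : ∃ s ∈ (S : Subgroup SL(2, F)), ¬ Zset s := by
      by_contra hc
      push Not at hc
      exact hQnc fun s hs t ht => by rcases hc s hs with rfl | rfl <;> simp
    obtain ⟨s, hs, hns⟩ := this
    exact hsq s hs hns ▸ Subgroup.mul_mem _ hs hs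
  obtain ⟨v₀, hv₀, w₀, hw₀, hvw₀⟩ : ∃ v ∈ (S : Subgroup SL(2, F)), ∃ w ∈ (S : Subgroup SL(2, F)), v * w = -(w * v) := by
    by_contra hc
    push Not at hc
    exact hQnc fun s hs t ht => (hanti s hs t ht).resolve_right (hc s hs t ht)
  have hnz : ∀ v w : SL(2, F), v * w = -(w * v) → ¬ Zset v := by
    intro v w h hz
    have hww : ∀ z : SL(2, F), -z ≠ z := fun z hz' => hne1 (by
      have h' : (-1 : SL(2, F)) * z = 1 * z := by simpa using hz'
      exact mul_right_cancel h')
    rcases hz with rfl | rfl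
    · exact hww w (by simpa using h.symm)
    · exact hww w (by simpa using h)
  have hv2 := hsq v₀ hv₀ (hnz _ _ hvw₀)
  have hw2 := hsq w₀ hw₀ (hnz w₀ v₀ (by rw [hvw₀, neg_neg]))
  -- reduce to odd elements of the normaliser
  refine isPronormal_of_normalizer S hSH fun a₀ ha₀ => ?_
  set N := Subgroup.normalizer ((S : Subgroup SL(2, F)) : Set SL(2, F)) with hNdef
  have hN24 : Nat.card N = 24 := by rw [hN3, hS8]
  have hidx : ∀ z ∈ N, z ^ 3 ∈ (S : Subgroup SL(2, F)) := by
    intro z hz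
    have hi : ((S : Subgroup SL(2, F)).subgroupOf N).index = 3 := by
      have h := ((S : Subgroup SL(2, F)).subgroupOf N).card_mul_index
      rw [Nat.card_congr (Subgroup.subgroupOfEquivOfLe (Subgroup.le_normalizer)).toEquiv, hS8, hN24] at h
      omega
    have := ((S : Subgroup SL(2, F)).subgroupOf N).pow_index_mem (⟨z, hz⟩ : N)
    rw [hi] at this
    exact this
  set a := a₀ ^ 16
  have haN : a ∈ N := N.pow_mem ha₀ _
  have hs₀ : a⁻¹ * a₀ ∈ (S : Subgroup SL(2, F)) := by
    rw [show a⁻¹ * a₀ = ((a₀ ^ 3) ^ 5)⁻¹ by rw [show a = a₀ ^ 16 from rfl, ← pow_mul, pow_succ' a₀ 15]; group]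
    exact Subgroup.inv_mem _ (Subgroup.pow_mem _ (hidx a₀ ha₀) _)
  have hred : cj a₀ H = cj a H := by
    rw [show a₀ = a * (a⁻¹ * a₀) by group, cj_mul, cj_self (hSH hs₀)]
  rw [hred]
  have ha3 : a ^ 3 = 1 := by
    have h1 : a ^ 3 = ((⟨a₀, ha₀⟩ : N) ^ 24 : N) ^ 2 := by
      rw [SubmonoidClass.coe_pow, ← pow_mul, ← pow_mul]
    rw [h1, ← hN24, pow_card_eq_one', OneMemClass.coe_one, one_pow]
  have hoa : Odd (orderOf a) := Odd.of_dvd_nat (by decide : Odd 3) (orderOf_dvd_of_pow_eq_one ha3)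
  clear hred hs₀ ha₀
  by_cases haH : a ∈ H ⊔ cj a H
  · exact ⟨a, haH, rfl⟩
  refine ⟨1, Subgroup.one_mem _, ?_⟩
  rw [cj_one]
  set K := H ⊔ cj a H with hK
  have hSK : (S : Subgroup SL(2, F)) ≤ K := hSH.trans le_sup_left
  have ha1 : a ∉ (S : Subgroup SL(2, F)) := fun h => haH (hSK h)
  -- `a` moves every class
  have hmove : ∀ u ∈ (S : Subgroup SL(2, F)), ¬ Zset u → a * u * a⁻¹ ≠ u ∧ a * u * a⁻¹ ≠ u⁻¹ := by
    intro u hu hnu
    suffices hcm : ¬ a * u = u * a by
      refine ⟨fun h => hcm (mul_inv_eq_iff_eq_mul.1 h), fun h => hcm (commute_of_odd hoa (Or.inr ?_))⟩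
      rw [hinvneg u (hsq u hu hnu), mul_inv_eq_iff_eq_mul, neg_mul] at h
      exact h
    intro hcm
    have hall : ∀ t ∈ (S : Subgroup SL(2, F)), a * t = t * a := by
      intro t ht
      set t' := a * t * a⁻¹
      have ht' : t' ∈ (S : Subgroup SL(2, F)) := (Subgroup.mem_normalizer_iff.1 haN t).1 ht
      by_cases hc' : t * u = u * t
      · by_cases hz : Zset t
        · rcases hz with rfl | rfl <;> simp
        have h3 : t ∈ cent u := mem_cent_iff.2 hc'.symm
        have hru : Regular u := regular_of_mul_self h2 (hsq u hu hnu)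
        have htr : (t : Matrix (Fin 2) (Fin 2) F).trace = (u : Matrix (Fin 2) (Fin 2) F).trace := by
          rw [trace_eq_zero_of_mul_self h2 (hsq t ht hz), trace_eq_zero_of_mul_self h2 (hsq u hu hnu)]
        rcases eq_or_eq_inv_of_trace hru h3 htr with rfl | rfl
        · exact hcm
        · exact (Commute.inv_right hcm)
      · set c := t' * t⁻¹ with hc_def
        have hcS : c ∈ (S : Subgroup SL(2, F)) := Subgroup.mul_mem _ ht' (Subgroup.inv_mem _ ht)
        have ht'' : t' * u = -(u * t') := by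
          have hx := (hanti t ht u hu).resolve_left hc'
          have h5 : a * (t * u) * a⁻¹ = a * -(u * t) * a⁻¹ := by rw [hx]
          rw [mul_neg, neg_mul] at h5
          have hau : a * u * a⁻¹ = u := by rw [hcm, mul_inv_cancel_right]
          calc t' * u = (a * t * a⁻¹) * (a * u * a⁻¹) := by rw [hau]
            _ = a * (t * u) * a⁻¹ := by group
            _ = -(a * (u * t) * a⁻¹) := h5
            _ = -((a * u * a⁻¹) * (a * t * a⁻¹)) := by
              rw [show a * (u * t) * a⁻¹ = a * u * a⁻¹ * (a * t * a⁻¹) by group]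
            _ = -(u * t') := by rw [hau]
        have htinv : t⁻¹ * u = -(u * t⁻¹) := by
          have hx := (hanti u hu t ht).resolve_left (Ne.symm hc')
          calc t⁻¹ * u = t⁻¹ * (u * t) * t⁻¹ := by group
            _ = t⁻¹ * -(t * u) * t⁻¹ := by rw [hx]
            _ = -(u * t⁻¹) := by simp [mul_assoc]
        have hcu : c * u = u * c := by
          rw [hc_def, mul_assoc, htinv, mul_neg, ← mul_assoc, ht'', neg_mul, neg_neg, mul_assoc]
        have hcc : a * c = c * a := by
          by_cases hz : Zset c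
          · rcases hz with h | h <;> rw [h] <;> simp
          have hru : Regular u := regular_of_mul_self h2 (hsq u hu hnu)
          have htr : (c : Matrix (Fin 2) (Fin 2) F).trace = (u : Matrix (Fin 2) (Fin 2) F).trace := by
            rw [trace_eq_zero_of_mul_self h2 (hsq c hcS hz), trace_eq_zero_of_mul_self h2 (hsq u hu hnu)]
          rcases eq_or_eq_inv_of_trace hru (mem_cent_iff.2 hcu.symm) htr with h | h
          · rw [h]; exact hcm
          · rw [h]; exact (Commute.inv_right hcm)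
        have e1 : a * t * a⁻¹ = c * t := by rw [hc_def, inv_mul_cancel_right]
        clear_value c t'
        have hcac : a * c * a⁻¹ = c := by rw [hcc, mul_inv_cancel_right]
        have e2 : a * (a * t * a⁻¹) * a⁻¹ = c * c * t := by
          rw [e1, show a * (c * t) * a⁻¹ = (a * c * a⁻¹) * (a * t * a⁻¹) by group, hcac, e1, mul_assoc]
        have e3 : a ^ 3 * t * (a ^ 3)⁻¹ = c ^ 3 * t := by
          calc a ^ 3 * t * (a ^ 3)⁻¹ = a * (a * (a * t * a⁻¹) * a⁻¹) * a⁻¹ := by
                  rw [pow_succ, pow_succ, pow_succ, pow_zero, one_mul]; group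
            _ = (a * c * a⁻¹) * (a * c * a⁻¹) * (a * t * a⁻¹) := by rw [e2]; group
            _ = c ^ 3 * t := by rw [hcac, e1]; simp only [pow_succ, pow_zero, one_mul, mul_assoc]
        rw [ha3, inv_one, mul_one, one_mul, eq_comm, mul_eq_right] at e3
        obtain ⟨k, hk⟩ := S.isPGroup' ⟨c, hcS⟩
        have hc1 : c = 1 := by
          have hk' : c ^ 2 ^ k = 1 := congrArg Subtype.val hk
          have := pow_gcd_eq_one.2 ⟨hk', e3⟩
          rwa [Nat.Coprime.gcd_eq_one ((by decide : Nat.Coprime 2 3).pow_left k), pow_one] at this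
        rw [hc1, one_mul] at e1
        exact mul_inv_eq_iff_eq_mul.1 e1
    have haC : a ∈ Subgroup.center SL(2, F) := hC ▸ Subgroup.mem_centralizer_iff.2 fun t ht => (hall t ht).symm
    rcases eq_one_or_eq_neg_one_of_mem_center a haC with h | h
    · exact ha1 (h ▸ Subgroup.one_mem _)
    · exact ha1 (h ▸ hmone)
  -- the normaliser in `K` is `S`
  have hNK : ∀ z ∈ K, z ∈ N → z ∈ (S : Subgroup SL(2, F)) := by
    intro z hzK hzN
    by_contra hz
    apply haH
    have hle : (S : Subgroup SL(2, F)) < N ⊓ K := lt_of_le_of_ne (le_inf Subgroup.le_normalizer hSK)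
      (fun h => hz (h ▸ ⟨hzN, hzK⟩))
    have h1 : Nat.card (S : Subgroup SL(2, F)) ∣ Nat.card (N ⊓ K : Subgroup SL(2, F)) := Subgroup.card_dvd_of_le hle.le
    have h2' : Nat.card (N ⊓ K : Subgroup SL(2, F)) ∣ Nat.card N := Subgroup.card_dvd_of_le inf_le_left
    have h3 : N ⊓ K = N := by
      refine Subgroup.eq_of_le_of_card_ge inf_le_left ?_
      have h4 : Nat.card (S : Subgroup SL(2, F)) < Nat.card (N ⊓ K : Subgroup SL(2, F)) := by
        refine lt_of_le_of_ne (Nat.le_of_dvd Nat.card_pos h1) fun h => hle.ne (Subgroup.eq_of_le_of_card_ge hle.le h.ge)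
      obtain ⟨m, hm⟩ := h1
      rw [hS8] at hm h4
      rw [hN24, hm] at h2'
      rw [hN24]
      have : m ∣ 3 := Nat.dvd_of_mul_dvd_mul_left (by norm_num : 0 < 8) (by simpa using h2')
      rcases (Nat.dvd_prime Nat.prime_three).1 this with rfl | rfl <;> omega
    exact (h3.ge haN).2
  -- a normal complement modulo `±1`
  obtain ⟨M, hMK, hMn, hMcard, hMS⟩ : ∃ M : Subgroup SL(2, F), M ≤ K ∧ (∀ k ∈ K, ∀ m ∈ M, k * m * k⁻¹ ∈ M) ∧
      (-1 ∈ M ∧ ∃ o, Odd o ∧ Nat.card M = 2 * o) ∧ (∀ k ∈ K, ∃ m ∈ M, ∃ s ∈ (S : Subgroup SL(2, F)), k = m * s) := by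
    let Z : Subgroup K := (Subgroup.center SL(2, F)).subgroupOf K
    have hZmem : ∀ z : K, z ∈ Z ↔ Zset (z : SL(2, F)) := by
      intro z
      refine ⟨fun h => eq_one_or_eq_neg_one_of_mem_center _ h, fun h => ?_⟩
      show (z : SL(2, F)) ∈ Subgroup.center SL(2, F)
      rcases h with h | h <;> rw [h]
      · exact Subgroup.one_mem _
      · exact neg_one_mem_center
    haveI : Z.Normal := inferInstance
    let π : K →* K ⧸ Z := QuotientGroup.mk' Z
    let S' : Sylow 2 K := S.subtype hSK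
    let P : Sylow 2 (K ⧸ Z) := S'.mapSurjective (QuotientGroup.mk'_surjective Z)
    have hPmem : ∀ z : K, π z ∈ (P : Subgroup (K ⧸ Z)) ↔ (z : SL(2, F)) ∈ (S : Subgroup SL(2, F)) := by
      intro z
      refine ⟨?_, fun h => ⟨z, h, rfl⟩⟩
      rintro ⟨s, hs, hsz⟩
      have hz1 : s⁻¹ * z ∈ Z := QuotientGroup.eq.1 hsz
      rw [hZmem] at hz1
      have : ((s⁻¹ * z : K) : SL(2, F)) ∈ (S : Subgroup SL(2, F)) := by
        rcases hz1 with h | h <;> rw [h]
        · exact Subgroup.one_mem _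
        · exact hmone
      have h5 := Subgroup.mul_mem _ (show (s : SL(2, F)) ∈ (S : Subgroup SL(2, F)) from hs) this
      simpa using h5
    have hPc : Subgroup.normalizer ((P : Subgroup (K ⧸ Z)) : Set (K ⧸ Z)) ≤
        Subgroup.centralizer ((P : Subgroup (K ⧸ Z)) : Set (K ⧸ Z)) := by
      intro z hz
      obtain ⟨z, rfl⟩ := QuotientGroup.mk_surjective z
      have hzS : (z : SL(2, F)) ∈ (S : Subgroup SL(2, F)) := hNK z z.2 (Subgroup.mem_normalizer_fintype fun s hs => by
        have h1 := (Subgroup.mem_normalizer_iff.1 hz (π ⟨s, hSK hs⟩)).1 ((hPmem _).2 hs)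
        rw [show (QuotientGroup.mk z : K ⧸ Z) = π z from rfl, ← map_inv, ← map_mul, ← map_mul] at h1
        exact (hPmem _).1 h1)
      rw [Subgroup.mem_centralizer_iff]
      rintro _ ⟨s, hs, rfl⟩
      show π s * π z = π z * π s
      rw [← map_mul, ← map_mul]
      refine QuotientGroup.eq.2 ?_
      rw [hZmem]
      push_cast
      rcases hanti (s : SL(2, F)) hs (z : SL(2, F)) hzS with h | h
      · left; rw [h]; simp
      · right
        rw [h]
        have : ∀ x : SL(2, F), (-x)⁻¹ * ((-1) * -x) = -1 := fun x => by rw [neg_one_comm, inv_mul_cancel_left]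
        calc (-(↑z * ↑s))⁻¹ * (↑z * ↑s) = (-((z : SL(2, F)) * s))⁻¹ * ((-1) * -((z : SL(2, F)) * s)) := by simp
          _ = -1 := this _
    let τ := MonoidHom.transferSylow P hPc
    have hker := MonoidHom.ker_transferSylow_isComplement' P hPc
    let M₀ : Subgroup K := τ.ker.comap π
    refine ⟨M₀.map K.subtype, Subgroup.map_subtype_le _, ?_, ⟨?_, ?_⟩, ?_⟩
    · rintro k hk _ ⟨m, hm, rfl⟩
      refine ⟨⟨k, hk⟩ * m * ⟨k, hk⟩⁻¹, ?_, rfl⟩
      exact (Subgroup.Normal.comap inferInstance π).conj_mem m hm _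
    · refine ⟨⟨-1, hSK hmone⟩, ?_, rfl⟩
      show π ⟨-1, hSK hmone⟩ ∈ τ.ker
      rw [show π ⟨-1, hSK hmone⟩ = 1 from (QuotientGroup.eq_one_iff _).2 ((hZmem _).2 (Or.inr rfl))]
      exact Subgroup.one_mem _
    · refine ⟨Nat.card τ.ker, Nat.odd_iff.2 (Nat.two_dvd_ne_zero.1 (MonoidHom.not_dvd_card_ker_transferSylow P hPc)), ?_⟩
      rw [Subgroup.card_subtype]
      have h1 : Nat.card M₀ = Nat.card Z * Nat.card τ.ker :=
        QuotientGroup.card_preimage_mk Z (τ.ker : Set (K ⧸ Z))
      rw [h1]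
      congr 1
      rw [Nat.card_eq_two_iff]
      refine ⟨1, ⟨⟨-1, hSK hmone⟩, (hZmem _).2 (Or.inr rfl)⟩, ?_, ?_⟩
      · intro h; exact hne1 (congrArg (fun y : Z => ((y : K) : SL(2, F))) h).symm
      · ext ⟨⟨z, hzK⟩, hz⟩
        simp only [Set.mem_insert_iff, Set.mem_singleton_iff, Set.mem_univ, iff_true]
        rcases (hZmem _).1 hz with h | h
        · exact Or.inl (Subtype.ext (Subtype.ext h))
        · exact Or.inr (Subtype.ext (Subtype.ext h))
    · intro k hk
      obtain ⟨⟨m, s⟩, hms⟩ := hker.2 (π ⟨k, hk⟩)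
      obtain ⟨s₁, hs₁, hse⟩ := s.2
      refine ⟨(((⟨k, hk⟩ : K) * s₁⁻¹ : K) : SL(2, F)), ⟨(⟨k, hk⟩ : K) * s₁⁻¹, ?_, rfl⟩, (s₁ : SL(2, F)), hs₁, by
        rw [Subgroup.coe_mul, Subgroup.coe_inv, inv_mul_cancel_right]⟩
      refine Subgroup.mem_comap.2 ?_
      have hms' : (m : K ⧸ Z) * (s : K ⧸ Z) = π ⟨k, hk⟩ := hms
      have hse' : π s₁ = (s : K ⧸ Z) := hse
      rw [map_mul, map_inv, hse', ← hms', mul_inv_cancel_right]
      exact m.2
  obtain ⟨hM1, o, ho, hMo⟩ := hMcard
  have hSn : ∀ s ∈ (S : Subgroup SL(2, F)), ∀ m ∈ M, s * m * s⁻¹ ∈ M := fun s hs m hm => hMn s (hSK hs) m hm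
  -- a non-central element of an `S`-stable abelian piece
  have hkey : ∀ A : Subgroup SL(2, F), (∀ x ∈ A, ∀ y ∈ A, x * y = y * x) → (∀ s ∈ (S : Subgroup SL(2, F)), ∀ x ∈ A,
      s * x * s⁻¹ ∈ A) → ∀ x ∈ A, ¬ Zset x →
      Regular x ∧ ∃ u ∈ (S : Subgroup SL(2, F)), ¬ Zset u ∧ u ∈ cent x := by
    intro A hA hAn x hx hxz
    obtain ⟨hreg, u, hu, hux⟩ := exists_commuting h2 hv2 hw2 hvw₀ hxz
      (mem_cent_iff.2 (hA _ hx _ (hAn _ hv₀ x hx))) (mem_cent_iff.2 (hA _ hx _ (hAn _ hw₀ x hx)))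
    refine ⟨hreg, u, ?_, ?_, hux⟩
    · rcases hu with rfl | rfl | rfl
      exacts [hv₀, hw₀, Subgroup.mul_mem _ hv₀ hw₀]
    · rcases hu with rfl | rfl | rfl
      · exact hnz _ _ hvw₀
      · exact hnz u v₀ (by rw [hvw₀, neg_neg])
      · refine hnz (v₀ * w₀) v₀ ?_
        rw [mul_assoc, show w₀ * v₀ = -(v₀ * w₀) by rw [hvw₀, neg_neg], mul_neg]
  obtain ⟨p, hp⟩ := CharP.exists F
  have := Fact.mk (CharP.char_is_prime F p)
  have hp2 : p ≠ 2 := fun h => by
    subst h
    exact h2 (by exact_mod_cast CharP.cast_eq_zero F 2)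
  have hoddp : Odd p := (CharP.char_is_prime F p).odd_of_ne_two hp2
  -- no unipotents in `M`
  have hMp : ¬ p ∣ Nat.card M := by
    intro hd
    let _ : MulAction (S : Subgroup SL(2, F)) (Sylow p M) := MulAction.compHom _
      ({ toFun := fun s =>
          { toFun := fun m => ⟨s * m * (s : SL(2, F))⁻¹, hSn s s.2 m m.2⟩
            invFun := fun m => ⟨(s : SL(2, F))⁻¹ * m * s, by
              simpa using hSn (s : SL(2, F))⁻¹ (Subgroup.inv_mem _ s.2) m m.2⟩
            left_inv := fun m => Subtype.ext (by simp [mul_assoc])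
            right_inv := fun m => Subtype.ext (by simp [mul_assoc])
            map_mul' := fun m m' => Subtype.ext (by simp [mul_assoc]) }
         map_one' := MulEquiv.ext fun m => Subtype.ext (by simp)
         map_mul' := fun s s' => MulEquiv.ext fun m => Subtype.ext (by simp [mul_assoc]) } :
        (S : Subgroup SL(2, F)) →* MulAut M)
    have hodd_n : ¬ 2 ∣ Nat.card (Sylow p M) := by
      intro h
      let P₀ : Sylow p M := default
      rw [P₀.card_eq_index_normalizer] at h
      have hneg : (⟨-1, hM1⟩ : M) ∈ Subgroup.normalizer (P₀ : Set M) :=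
        Subgroup.mem_normalizer_fintype fun x hx => by
          rwa [show (⟨-1, hM1⟩ : M) * x * (⟨-1, hM1⟩ : M)⁻¹ = x from Subtype.ext (by simp)]
      have h21 : 2 ∣ Nat.card (Subgroup.normalizer (P₀ : Set M)) := by
        have := orderOf_dvd_natCard (⟨⟨-1, hM1⟩, hneg⟩ : Subgroup.normalizer (P₀ : Set M))
        rwa [← Subgroup.orderOf_coe, ← Subgroup.orderOf_coe, orderOf_neg_one h2] at this
      have := mul_dvd_mul h21 h
      rw [Subgroup.card_mul_index, hMo] at this
      obtain ⟨t, rfl⟩ := ho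
      omega
    obtain ⟨P, hP⟩ := S.isPGroup'.nonempty_fixed_point_of_prime_not_dvd_card (Sylow p M) hodd_n
    have hPn : ∀ s ∈ (S : Subgroup SL(2, F)), ∀ x ∈ (P : Subgroup M).map M.subtype,
        s * x * s⁻¹ ∈ (P : Subgroup M).map M.subtype := by
      rintro s hs _ ⟨x, hx, rfl⟩
      have h := hP ⟨s, hs⟩
      exact ⟨⟨s * x * s⁻¹, hSn s hs x x.2⟩, h ▸ ⟨x, hx, rfl⟩, rfl⟩
    have hPne : (P : Subgroup M) ≠ ⊥ := P.ne_bot_of_dvd_card hd
    haveI := Subgroup.nontrivial_iff_ne_bot _ |>.2 hPne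
    haveI := P.isPGroup'.center_nontrivial
    obtain ⟨⟨⟨x, hxP⟩, hxC⟩, hx1⟩ := exists_ne (1 : Subgroup.center (P : Subgroup M))
    have hxne : ((x : SL(2, F))) ≠ 1 := fun h => hx1 (Subtype.ext (Subtype.ext (Subtype.ext h)))
    obtain ⟨k, hk⟩ := P.isPGroup' ⟨x, hxP⟩
    have hk' : (x : SL(2, F)) ^ p ^ k = 1 := congrArg (fun z : (P : Subgroup M) => ((z : M) : SL(2, F))) hk
    have hxz : ¬ Zset (x : SL(2, F)) := by
      rintro (h | h)
      · exact hxne h
      · rw [h, (hoddp.pow).neg_one_pow] at hk'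
        exact hne1 hk'
    have hxcent : ∀ y ∈ (P : Subgroup M).map M.subtype, (x : SL(2, F)) * y = y * x := by
      rintro _ ⟨y, hy, rfl⟩
      exact congrArg (fun z : (P : Subgroup M) => ((z : M) : SL(2, F))) (Subgroup.mem_center_iff.1 hxC ⟨y, hy⟩).symm
    have hxm : (x : SL(2, F)) ∈ (P : Subgroup M).map M.subtype := ⟨x, hxP, rfl⟩
    obtain ⟨hreg, -⟩ := exists_commuting h2 hv2 hw2 hvw₀ hxz (mem_cent_iff.2 (hxcent _ (hPn _ hv₀ _ hxm)))
      (mem_cent_iff.2 (hxcent _ (hPn _ hw₀ _ hxm)))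
    obtain ⟨hcy, hcc⟩ := cent_regular hreg
    have hox : orderOf (x : SL(2, F)) ∣ Nat.card (cent (x : SL(2, F))) :=
      Subgroup.orderOf_dvd_natCard _ (mem_cent_iff.2 rfl)
    obtain ⟨i, -, hi⟩ := (Nat.dvd_prime_pow (CharP.char_is_prime F p)).1 (orderOf_dvd_of_pow_eq_one hk')
    have hpd : p ∣ Nat.card (cent (x : SL(2, F))) := by
      refine dvd_trans ?_ hox
      rw [hi]
      refine dvd_pow_self p fun h0 => hxne (orderOf_eq_one_iff.1 (by rw [hi, h0, pow_zero]))
    obtain ⟨f, -, hf⟩ := FiniteField.card F p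
    have hpq : p ∣ Nat.card F := by rw [Nat.card_eq_fintype_card, hf]; exact dvd_pow_self p f.ne_zero
    have h1F : 1 ≤ Nat.card F := Nat.card_pos
    have hp1 : p ∣ 1 := by
      rcases hcc with h | h <;> rw [h] at hpd
      · have h5 := Nat.dvd_sub hpq hpd
        rwa [Nat.sub_sub_self h1F] at h5
      · simpa using Nat.dvd_sub hpd hpq
    exact (CharP.char_is_prime F p).ne_one (Nat.dvd_one.1 hp1)
  have hregM : ∀ x ∈ M, ¬ Zset x → Regular x := by
    intro x hx hxz
    by_contra hr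
    have h1 := pow_two_mul_char_of_not_regular hr p
    have hox : orderOf x ∣ Nat.card M := Subgroup.orderOf_dvd_natCard M hx
    have : orderOf x ∣ 2 := by
      have hd := orderOf_dvd_of_pow_eq_one h1
      have hcp : Nat.Coprime (orderOf x) p :=
        (((CharP.char_is_prime F p).coprime_iff_not_dvd).2 fun h => hMp (h.trans hox)).symm
      exact hcp.dvd_of_dvd_mul_right hd
    have hx2 : x * x = 1 := by rw [← sq]; exact orderOf_dvd_iff_pow_eq_one.1 this
    by_cases hx1 : x = 1
    · exact hxz (Or.inl hx1)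
    · exact hxz (Or.inr (eq_neg_one_of_mul_self h2 hx2 hx1))
  haveI hZgrp : IsZGroup M := by
    refine ⟨fun r hr P => ?_⟩
    have := Fact.mk hr
    by_cases hr2 : r = 2
    · subst hr2
      refine isCyclic_of_card_dvd_prime (p := 2) ?_
      rw [P.card_eq_multiplicity, hMo, Nat.factorization_mul two_ne_zero (by rintro rfl; simp at ho),
        Finsupp.add_apply, Nat.prime_two.factorization_self,
        Nat.factorization_eq_zero_of_not_dvd (Nat.two_dvd_ne_zero.2 (Nat.odd_iff.1 ho))]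
      simp
    rcases (P : Subgroup M).bot_or_nontrivial with h | h
    · rw [Subgroup.eq_bot_iff_forall] at h
      haveI : Subsingleton P := ⟨fun a b => Subtype.ext ((h _ a.2).trans (h _ b.2).symm)⟩
      exact isCyclic_of_subsingleton
    haveI := P.isPGroup'.center_nontrivial
    obtain ⟨⟨⟨x, hxP⟩, hxC⟩, hx1⟩ := exists_ne (1 : Subgroup.center (P : Subgroup M))
    have hxz : ¬ Zset (x : SL(2, F)) := by
      rintro (h | h)
      · exact hx1 (Subtype.ext (Subtype.ext (Subtype.ext h)))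
      · obtain ⟨k, hk⟩ := P.isPGroup' ⟨x, hxP⟩
        have hk' : (x : SL(2, F)) ^ r ^ k = 1 := congrArg (fun z : (P : Subgroup M) => ((z : M) : SL(2, F))) hk
        rw [h, ((hr.odd_of_ne_two hr2).pow).neg_one_pow] at hk'
        exact hne1 hk'
    haveI := (cent_regular (hregM x x.2 hxz)).1
    let ι : (P : Subgroup M) →* cent (x : SL(2, F)) := (M.subtype.comp (P : Subgroup M).subtype).codRestrict _
      fun y => mem_cent_iff.2 (congrArg (fun z : (P : Subgroup M) => ((z : M) : SL(2, F)))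
        (Subgroup.mem_center_iff.1 hxC y)).symm
    refine isCyclic_of_injective ι fun a b hab => ?_
    have := congrArg (fun z : cent (x : SL(2, F)) => (z : SL(2, F))) hab
    exact Subtype.ext (Subtype.ext this)
  have hodd_or : ∀ y ∈ M, Odd (orderOf y) ∨ Odd (orderOf (-y)) := by
    intro y hy
    rcases Nat.even_or_odd (orderOf y) with he | hoy
    · right
      have hdvd : orderOf y ∣ Nat.card M := Subgroup.orderOf_dvd_natCard M hy
      rw [hMo] at hdvd
      obtain ⟨c, hc⟩ := he.two_dvd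
      have hcodd : Odd c := ho.of_dvd_nat (Nat.dvd_of_mul_dvd_mul_left two_pos (hc ▸ hdvd))
      refine hcodd.of_dvd_nat (orderOf_dvd_of_pow_eq_one ?_)
      rw [hcodd.neg_pow]
      have hyc : y ^ c * y ^ c = 1 := by rw [← pow_add, ← two_mul, ← hc, pow_orderOf_eq_one]
      have hyne : y ^ c ≠ 1 := fun h => by
        have := Nat.le_of_dvd hcodd.pos (orderOf_dvd_of_pow_eq_one h)
        have := hcodd.pos
        omega
      rw [eq_neg_one_of_mul_self h2 hyc hyne, neg_neg]
    · exact Or.inl hoy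
  -- everything is inside the centre or one torus
  have hfin : ∀ m ∈ M, ¬ Zset m → ∃ u ∈ (S : Subgroup SL(2, F)), ¬ Zset u ∧ ∀ y ∈ M, y * u = u * y := by
    intro m hm hmz
    let D : ℕ → Subgroup SL(2, F) := fun k => (derivedSeries M k).map M.subtype
    have hDn : ∀ k, ∀ s ∈ (S : Subgroup SL(2, F)), ∀ x ∈ D k, s * x * s⁻¹ ∈ D k := by
      intro k s hs
      let e : M →* M :=
        { toFun := fun y => ⟨s * y * s⁻¹, hSn s hs y y.2⟩
          map_one' := Subtype.ext (by simp)
          map_mul' := fun y y' => Subtype.ext (by simp [mul_assoc]) }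
      rintro _ ⟨x, hx, rfl⟩
      exact ⟨e x, map_derivedSeries_le_derivedSeries e k ⟨x, hx, rfl⟩, rfl⟩
    obtain ⟨n, hn⟩ := (inferInstance : Group.IsSolvable M).solvable
    classical
    have hex : ∃ k, ∀ x ∈ D k, Zset x := ⟨n, by
      rintro _ ⟨x, hx, rfl⟩
      rw [hn] at hx
      replace hx : x = 1 := Subgroup.mem_bot.1 hx
      exact Or.inl (by rw [hx]; rfl)⟩
    obtain ⟨k, hk⟩ : ∃ k, Nat.find hex = k + 1 := by
      refine ⟨Nat.find hex - 1, (Nat.sub_add_cancel (Nat.pos_of_ne_zero fun h0 => ?_)).symm⟩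
      have h := Nat.find_spec hex
      rw [h0] at h
      exact hmz (h m ⟨⟨m, hm⟩, Subgroup.mem_top _, rfl⟩)
    obtain ⟨x, hx, hxz⟩ : ∃ x ∈ D k, ¬ Zset x := by
      have := Nat.find_min hex (show k < Nat.find hex by omega)
      push Not at this
      exact this
    have hD1 := Nat.find_spec hex
    rw [hk] at hD1
    have hab : ∀ y ∈ D k, ∀ y' ∈ D k, y * y' = y' * y := by
      intro y hy y' hy'
      have hcomm : y * y' * y⁻¹ * y'⁻¹ ∈ D (k + 1) := by
        obtain ⟨x₁, hx₁, rfl⟩ := hy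
        obtain ⟨x₂, hx₂, rfl⟩ := hy'
        exact ⟨x₁ * x₂ * x₁⁻¹ * x₂⁻¹, Subgroup.commutator_mem_commutator hx₁ hx₂, by simp⟩
      have hpm : y * y' = y' * y ∨ y * y' = -(y' * y) := by
        rcases hD1 _ hcomm with h | h
        · left
          calc y * y' = y * y' * y⁻¹ * y'⁻¹ * (y' * y) := by group
            _ = y' * y := by rw [h, one_mul]
        · right
          calc y * y' = y * y' * y⁻¹ * y'⁻¹ * (y' * y) := by group
            _ = -(y' * y) := by rw [h, neg_one_mul]
      have hyM : y ∈ M := Subgroup.map_subtype_le _ hy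
      rcases hodd_or y hyM with h | h
      · exact commute_of_odd h hpm
      · have := commute_of_odd (v := y') h (by
          rcases hpm with e | e
          · left; rw [neg_mul, mul_neg, e]
          · right; rw [neg_mul, mul_neg, e])
        simpa using this
    obtain ⟨hreg, u, huS, huz, hux⟩ := hkey (D k) hab (hDn k) x hx hxz
    refine ⟨u, huS, huz, fun y hy => ?_⟩
    have hyx : ∀ z ∈ M, Odd (orderOf z) → z ∈ cent x := by
      intro z hz hzo
      obtain ⟨x', hx', hxe⟩ := hx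
      have hzx : z * x * z⁻¹ ∈ D k :=
        ⟨(⟨z, hz⟩ : M) * x' * (⟨z, hz⟩ : M)⁻¹, (inferInstance : (derivedSeries M k).Normal).conj_mem x' hx' _,
          by rw [← hxe]; rfl⟩
      have hc1 : z * x * z⁻¹ ∈ cent x := mem_cent_iff.2 (hab _ ⟨x', hx', hxe⟩ _ hzx)
      obtain ⟨l, hl⟩ := exists_pow_eq_self_of_coprime (x := z) (n := 2) (Nat.coprime_two_left.2 hzo)
      have h2z : Commute (z ^ 2) x := by
        have h3 : z ^ 2 * x * (z ^ 2)⁻¹ = x := by
          rw [show z ^ 2 * x * (z ^ 2)⁻¹ = z * (z * x * z⁻¹) * z⁻¹ by rw [sq]; group]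
          rcases eq_or_eq_inv_of_trace hreg hc1 (trace_conj z x) with h | h
          · rw [h, h]
          · rw [h, show z * x⁻¹ * z⁻¹ = (z * x * z⁻¹)⁻¹ by group, h, inv_inv]
        exact mul_inv_eq_iff_eq_mul.1 h3
      rw [mem_cent_iff, ← hl]
      exact (h2z.pow_left l).symm
    have hcentc := fun z (hz : z ∈ cent x) => cent_comm hreg.nonScalar hz hux
    rcases hodd_or y hy with hoy | hyo
    · exact hcentc _ (hyx _ hy hoy)
    · have hny : -y ∈ M := by
        have := M.mul_mem hM1 hy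
        simpa using this
      have h5 := hcentc _ (hyx _ hny hyo)
      simpa using h5
  -- conclude `H = S`
  have hHM : ∀ m ∈ M, m ∈ H → Zset m := by
    intro m hm hmH
    by_contra hmz
    obtain ⟨u, huS, huz, hucomm⟩ := hfin m hm hmz
    have hm2 : ¬ Zset (m ^ 2) := by
      intro h
      have hm4 : m ^ (2 ^ 2) = 1 := by
        rw [sq (2 : ℕ), pow_mul]
        rcases h with h | h <;> rw [h] <;> simp
      have hd : orderOf m ∣ Nat.gcd (2 ^ 2) (2 * o) :=
        Nat.dvd_gcd (orderOf_dvd_of_pow_eq_one hm4) (hMo ▸ Subgroup.orderOf_dvd_natCard M hm)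
      rw [show (2 : ℕ) ^ 2 = 2 * 2 from rfl, Nat.gcd_mul_left, Nat.Coprime.gcd_eq_one (Nat.coprime_two_left.2 ho), mul_one] at hd
      have hm22 : m * m = 1 := by rw [← sq]; exact orderOf_dvd_iff_pow_eq_one.1 hd
      by_cases hm1 : m = 1
      · exact hmz (Or.inl hm1)
      · exact hmz (Or.inr (eq_neg_one_of_mul_self h2 hm22 hm1))
    set y := a * m ^ 2 * a⁻¹ with hy
    have hyM : y ∈ M := by
      have hyK : a * m * a⁻¹ ∈ K := (le_sup_right : cj a H ≤ K) ⟨m, hmH, rfl⟩
      have hyK2 : y ∈ K := by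
        rw [hy, show a * m ^ 2 * a⁻¹ = (a * m * a⁻¹) * (a * m * a⁻¹) by rw [sq]; group]
        exact K.mul_mem hyK hyK
      have hyo : Odd (orderOf y) := by
        have h6 : (m ^ 2) ^ o = 1 := by
          rw [← pow_mul]
          exact orderOf_dvd_iff_pow_eq_one.1 (hMo ▸ Subgroup.orderOf_dvd_natCard M hm)
        refine ho.of_dvd_nat (orderOf_dvd_of_pow_eq_one ?_)
        rw [hy, conj_pow, h6, mul_one, mul_inv_cancel]
      obtain ⟨m', hm', s, hs, he⟩ := hMS _ hyK2
      have hy2 : y ^ 2 ∈ M := by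
        have hss : s * s ∈ M := by
          by_cases hz : Zset s
          · rcases hz with rfl | rfl <;> simp
          · rw [hsq s hs hz]; exact hM1
        rw [he, sq, show m' * s * (m' * s) = m' * (s * m' * s⁻¹) * (s * s) by group]
        exact M.mul_mem (M.mul_mem hm' (hSn s hs m' hm')) hss
      obtain ⟨l, hl⟩ := exists_pow_eq_self_of_coprime (x := y) (n := 2) (Nat.coprime_two_left.2 hyo)
      exact hl ▸ M.pow_mem hy2 l
    have hyz : ¬ Zset y := fun h => hm2 (by
      rcases h with h | h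
      · left; rw [show m ^ 2 = a⁻¹ * y * a by rw [hy]; group, h]; simp
      · right; rw [show m ^ 2 = a⁻¹ * y * a by rw [hy]; group, h]; simp)
    have h1 : u ∈ cent y := mem_cent_iff.2 (hucomm y hyM)
    have hau : a * u * a⁻¹ ∈ (S : Subgroup SL(2, F)) := (Subgroup.mem_normalizer_iff.1 haN u).1 huS
    have h3 : a * u * a⁻¹ ∈ cent y := by
      rw [mem_cent_iff, hy]
      have hcm : m ^ 2 * u = u * m ^ 2 := (Commute.pow_left (hucomm m hm) 2)
      calc a * m ^ 2 * a⁻¹ * (a * u * a⁻¹) = a * (m ^ 2 * u) * a⁻¹ := by group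
        _ = a * (u * m ^ 2) * a⁻¹ := by rw [hcm]
        _ = a * u * a⁻¹ * (a * m ^ 2 * a⁻¹) := by group
    have h4 : a * u * a⁻¹ ∈ cent u := mem_cent_iff.2 (cent_comm (not_zset_iff.1 hyz) h1 h3)
    rcases eq_or_eq_inv_of_trace (regular_of_mul_self h2 (hsq u huS huz)) h4 (trace_conj a u) with h | h
    · exact (hmove u huS huz).1 h
    · exact (hmove u huS huz).2 h
  have hHS : H = (S : Subgroup SL(2, F)) := by
    refine le_antisymm (fun h hh => ?_) hSH
    obtain ⟨m, hm, s, hs, rfl⟩ := hMS h (Subgroup.mem_sup_left hh)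
    have hmH : m ∈ H := by
      have := H.mul_mem hh (H.inv_mem (hSH hs))
      simpa using this
    rcases hHM m hm hmH with rfl | rfl
    · simpa using hs
    · exact Subgroup.mul_mem _ hmone hs
  rw [hHS]
  exact cj_eq_iff.2 haN

end CfsgLib.Pronormal.SLTwo
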