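import Cfsg.Agent.Lib.Pronormal.Towers
import Cfsg.Agent.Lib.Pronormal.SLTwo
import Cfsg.Agent.Lib.Pronormal.EvenChar

set_option autoImplicit false

/-!
# Odd index subgroups of `SL_{2^w}(q)` and `SU_{2^w}(q)` are pronormal
-/

namespace CfsgLib.Pronormal

open Matrix Cfsg

variable {F : Type*} [Field F] [Fintype F]

theorem charP_two (h : ¬ Odd (Fintype.card F)) : CharP F 2 := by
  obtain ⟨p, hp⟩ := CharP.exists F
  obtain ⟨k, hpp, hk⟩ := FiniteField.card F p
  rcases hpp.eq_two_or_odd' with rfl | ho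
  · exact hp
  · exact absurd (hk ▸ ho.pow) h

theorem SL_two_pow (w : ℕ) (hw : 1 ≤ w) (H : Subgroup (SpecialLinearGroup (Fin (2 ^ w)) F)) (hH : Odd H.index) :
    Cfsg.IsPronormal H := by
  by_cases hodd : Odd (Fintype.card F)
  · rcases Nat.lt_or_ge w 2 with h | h
    · obtain rfl : w = 1 := by omega
      exact SLTwo.odd_index_pronormal hodd H hH
    · exact odd_index_pronormal_of_self_normalizing (SylowTwo.normalizer_sylow_SL hodd h) H hH
  · have := charP_two hodd
    exact EvenChar.SL_even H hH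

theorem SU_two_pow (q : ℕ) (hF : Fintype.card F = q ^ 2) (w : ℕ) (hw : 2 ≤ w)
    (H : Subgroup (SU (2 ^ w) F q)) (hH : Odd H.index) : Cfsg.IsPronormal H := by
  by_cases hodd : Odd (Fintype.card F)
  · exact odd_index_pronormal_of_self_normalizing (SylowTwo.normalizer_sylow_SU hF hodd hw) H hH
  · have := charP_two hodd
    obtain ⟨K⟩ := CfsgLib.Classical.Herm.exists_conj_of_card hF
    exact EvenChar.SU_even K (Nat.even_pow.2 ⟨even_two, by omega⟩) H hH

end CfsgLib.Pronormal
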