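import Mathlib

set_option autoImplicit false

/-!
# Normalisers of Sylow 2-subgroups in wreath towers of matrix groups

If `T` is a suitable `2`-subgroup of `G ≤ GL(ι)` whose odd normalising elements are scalar, the
same holds for `T ≀ 2` in a group on `ι ⊕ ι` containing the block diagonal copies of `G`.
-/

namespace CfsgLib.Pronormal.SylowTwo

open Matrix

variable {E : Type*} [Field E] {ι : Type*} [Fintype ι] [DecidableEq ι]

/-- A scalar invertible matrix. -/
def Scal (x : GL ι E) : Prop := ∃ c : E, (x : Matrix ι ι E) = c • 1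

theorem Scal.commute {x : GL ι E} (h : Scal x) (y : GL ι E) : x * y = y * x := by
  obtain ⟨c, hc⟩ := h
  exact Units.ext (by simp [hc])

/-- An element of odd order is a power of each of its `2`-power powers. -/
theorem exists_pow_of_odd {M : Type*} [Monoid M] {g : M} (h : Odd (orderOf g)) (k : ℕ) :
    ∃ l : ℕ, (g ^ 2 ^ k) ^ l = g :=
  exists_pow_eq_self_of_coprime (((Nat.coprime_two_left.2 h)).pow_left k)

theorem commute_of_sq {M : Type*} [Monoid M] {g x : M} (h : Odd (orderOf g)) (hx : g ^ 2 * x = x * g ^ 2) :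
    g * x = x * g := by
  obtain ⟨l, hl⟩ := exists_pow_of_odd h 1
  rw [pow_one] at hl
  rw [← hl]
  exact (Commute.pow_left hx l)

theorem Scal.of_odd {g : GL ι E} {k : ℕ} (h : Scal (g ^ 2 ^ k)) (hg : Odd (orderOf g)) : Scal g := by
  obtain ⟨l, hl⟩ := exists_pow_of_odd hg k
  obtain ⟨c, hc⟩ := h
  exact ⟨c ^ l, by rw [← hl, Units.val_pow_eq_pow_val, hc, smul_pow, one_pow]⟩

theorem eq_one_of_odd_two {M : Type*} [Monoid M] {g : M} {k : ℕ} (hg : g ^ 2 ^ k = 1)
    {m : ℕ} (hm : Odd m) (hm1 : g ^ m = 1) : g = 1 := by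
  have := pow_gcd_eq_one.2 ⟨hg, hm1⟩
  rwa [Nat.Coprime.gcd_eq_one ((Nat.coprime_two_left.2 hm).pow_left k), pow_one] at this

theorem two_pow_of_mem {M : Type*} [Group M] {T : Subgroup M} (hT : IsPGroup 2 T) {x : M}
    (hx : x ∈ T) : ∃ k : ℕ, x ^ 2 ^ k = 1 := by
  obtain ⟨k, hk⟩ := hT ⟨x, hx⟩
  exact ⟨k, by simpa using congrArg Subtype.val hk⟩

/-- The invariant carried up the tower. -/
structure Tower (G T : Subgroup (GL ι E)) : Prop where
  le : T ≤ G
  pgroup : IsPGroup 2 T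
  neg : -1 ∈ T ∧ ((-1 : GL ι E) : Matrix ι ι E).det = 1
  nonscalar : ∃ s ∈ T, (s : Matrix ι ι E).det = 1 ∧ ¬ Scal s
  cent : ∀ M : Matrix ι ι E, (∀ s ∈ T, (s : Matrix ι ι E).det = 1 → (s : Matrix ι ι E) * M = M * s) →
    ∃ c : E, M = c • 1
  fix : ∀ g ∈ G, Odd (orderOf g) → (∀ s ∈ T, g * s * g⁻¹ ∈ T) → Scal g
  card : Nat.card T = 2 ^ (Nat.card G).factorization 2

/-! ### The doubling step -/

/-- Block diagonal matrices. -/
def blk : GL ι E × GL ι E →* GL (ι ⊕ ι) E where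
  toFun p := ⟨fromBlocks p.1 0 0 p.2, fromBlocks (↑p.1⁻¹) 0 0 (↑p.2⁻¹),
    by simp [fromBlocks_multiply, fromBlocks_one],
    by simp [fromBlocks_multiply, fromBlocks_one]⟩
  map_one' := Units.ext (by simp [fromBlocks_one])
  map_mul' p p' := Units.ext (by simp [fromBlocks_multiply])

theorem coe_blk (a b : GL ι E) :
    ((blk (a, b) : GL (ι ⊕ ι) E) : Matrix (ι ⊕ ι) (ι ⊕ ι) E) = fromBlocks a 0 0 b := rfl

theorem det_blk (a b : GL ι E) :
    ((blk (a, b) : GL (ι ⊕ ι) E) : Matrix (ι ⊕ ι) (ι ⊕ ι) E).det =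
      (a : Matrix ι ι E).det * (b : Matrix ι ι E).det := by
  rw [coe_blk, det_fromBlocks_zero₂₁]

/-- The signed swap of the two blocks. -/
def swp : GL (ι ⊕ ι) E :=
  ⟨fromBlocks 0 1 (-1) 0, fromBlocks 0 (-1) 1 0, by simp [fromBlocks_multiply, fromBlocks_one],
    by simp [fromBlocks_multiply, fromBlocks_one]⟩

theorem det_swp : ((swp : GL (ι ⊕ ι) E) : Matrix (ι ⊕ ι) (ι ⊕ ι) E).det = 1 := by
  have h : fromBlocks (0 : Matrix ι ι E) (1 : Matrix ι ι E) (-1 : Matrix ι ι E) (0 : Matrix ι ι E) =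
      fromBlocks (1 : Matrix ι ι E) (1 : Matrix ι ι E) 0 (1 : Matrix ι ι E) * fromBlocks (1 : Matrix ι ι E) 0 (-1 : Matrix ι ι E) (1 : Matrix ι ι E) *
        fromBlocks (1 : Matrix ι ι E) (1 : Matrix ι ι E) 0 (1 : Matrix ι ι E) := by
    simp [fromBlocks_multiply]
  show (fromBlocks (0 : Matrix ι ι E) (1 : Matrix ι ι E) (-1 : Matrix ι ι E) (0 : Matrix ι ι E)).det = 1
  rw [h, det_mul, det_mul, det_fromBlocks_zero₂₁, det_fromBlocks_zero₁₂, det_one, one_mul, one_mul, one_mul]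

/-- `T ≀ 2`, as a submonoid. -/
def wrM (T : Subgroup (GL ι E)) : Submonoid (GL (ι ⊕ ι) E) where
  carrier := {x | ∃ a ∈ T, ∃ b ∈ T, (x : Matrix (ι ⊕ ι) (ι ⊕ ι) E) = fromBlocks a 0 0 b ∨
    (x : Matrix (ι ⊕ ι) (ι ⊕ ι) E) = fromBlocks 0 a b 0}
  one_mem' := ⟨1, T.one_mem, 1, T.one_mem, Or.inl (by simp [fromBlocks_one])⟩
  mul_mem' := by
    rintro x y ⟨a, ha, b, hb, hx⟩ ⟨c, hc, d, hd, hy⟩
    rcases hx with hx | hx <;> rcases hy with hy | hy
    · exact ⟨a * c, T.mul_mem ha hc, b * d, T.mul_mem hb hd, Or.inl (by simp [hx, hy, fromBlocks_multiply])⟩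
    · exact ⟨a * c, T.mul_mem ha hc, b * d, T.mul_mem hb hd, Or.inr (by simp [hx, hy, fromBlocks_multiply])⟩
    · exact ⟨a * d, T.mul_mem ha hd, b * c, T.mul_mem hb hc, Or.inr (by simp [hx, hy, fromBlocks_multiply])⟩
    · exact ⟨a * d, T.mul_mem ha hd, b * c, T.mul_mem hb hc, Or.inl (by simp [hx, hy, fromBlocks_multiply])⟩

variable [Finite E]

/-- `T ≀ 2`. -/
noncomputable def wr (T : Subgroup (GL ι E)) : Subgroup (GL (ι ⊕ ι) E) where
  toSubmonoid := wrM T
  inv_mem' {x} hx := by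
    have hk := orderOf_pos x
    rw [show x⁻¹ = x ^ (orderOf x - 1) from inv_eq_of_mul_eq_one_right (by
      rw [← pow_succ', Nat.sub_add_cancel hk, pow_orderOf_eq_one])]
    exact (wrM T).pow_mem hx _

omit [Finite E] in
theorem ne_zero_coe [Nonempty ι] (a : GL ι E) : (a : Matrix ι ι E) ≠ 0 := a.ne_zero

theorem blk_mem_wr {T : Subgroup (GL ι E)} {a b : GL ι E} (ha : a ∈ T) (hb : b ∈ T) :
    blk (a, b) ∈ wr T := ⟨a, ha, b, hb, Or.inl rfl⟩

theorem swp_mem_wr {T : Subgroup (GL ι E)} (hn : -1 ∈ T) : swp ∈ wr T :=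
  ⟨1, T.one_mem, -1, hn, Or.inr (by simp [swp])⟩

theorem card_wr [Nonempty ι] (T : Subgroup (GL ι E)) :
    Nat.card (wr T) = 2 * Nat.card T ^ 2 := by
  let f : Bool × (T × T) → wr T := fun p =>
    ⟨blk (p.2.1.1, p.2.2.1) * (if p.1 then ⟨fromBlocks 0 1 1 0, fromBlocks 0 1 1 0,
      by simp [fromBlocks_multiply, fromBlocks_one], by simp [fromBlocks_multiply, fromBlocks_one]⟩ else 1),
      p.2.1.1, p.2.1.2, p.2.2.1, p.2.2.2, by
        cases p.1
        · exact Or.inl (by simp [coe_blk])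
        · exact Or.inr (by simp [coe_blk, fromBlocks_multiply])⟩
  have hf : Function.Bijective f := by
    refine ⟨fun p p' h => ?_, fun x => ?_⟩
    · have h' := congrArg (fun z : wr T => ((z : GL (ι ⊕ ι) E) : Matrix (ι ⊕ ι) (ι ⊕ ι) E)) h
      rcases p with ⟨_ | _, a, b⟩ <;> rcases p' with ⟨_ | _, a', b'⟩ <;>
        simp [f, coe_blk, fromBlocks_multiply, fromBlocks_inj, ne_zero_coe, (ne_zero_coe _).symm] at h' ⊢
      all_goals exact ⟨Subtype.ext (Units.ext h'.1), Subtype.ext (Units.ext h'.2)⟩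
    · obtain ⟨a, ha, b, hb, hx | hx⟩ := x.2
      · exact ⟨⟨false, ⟨a, ha⟩, ⟨b, hb⟩⟩, Subtype.ext (Units.ext (by simp [f, coe_blk, hx]))⟩
      · exact ⟨⟨true, ⟨a, ha⟩, ⟨b, hb⟩⟩,
          Subtype.ext (Units.ext (by simp [f, coe_blk, fromBlocks_multiply, hx]))⟩
  rw [← Nat.card_eq_of_bijective f hf, Nat.card_prod, Nat.card_prod]
  simp [sq]

omit [Finite E] in
theorem eq_neg_self {h2 : (2 : E) ≠ 0} {α β : Type*} {M : Matrix α β E} (h : M = -M) : M = 0 := by
  ext i j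
  have e : M i j = -M i j := congrFun (congrFun h i) j
  have : (2 : E) * M i j = 0 := by linear_combination e
  exact (mul_eq_zero.1 this).resolve_left h2

/-- Only scalars commute with the determinant one part of `T ≀ 2`. -/
theorem cent_wr {G T : Subgroup (GL ι E)} (h2 : (2 : E) ≠ 0) (hT : Tower G T)
    (M : Matrix (ι ⊕ ι) (ι ⊕ ι) E)
    (hM : ∀ s ∈ wr T, (s : Matrix (ι ⊕ ι) (ι ⊕ ι) E).det = 1 → (s : Matrix (ι ⊕ ι) (ι ⊕ ι) E) * M = M * s) :
    ∃ c : E, M = c • 1 := by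
  rw [← fromBlocks_toBlocks M] at hM ⊢
  set A := M.toBlocks₁₁; set B := M.toBlocks₁₂; set C := M.toBlocks₂₁; set D := M.toBlocks₂₂
  have ht := hM _ (blk_mem_wr hT.neg.1 T.one_mem) (by rw [det_blk, hT.neg.2, Units.val_one, det_one, one_mul])
  simp [coe_blk, fromBlocks_multiply, fromBlocks_inj] at ht
  have hB : B = 0 := eq_neg_self (h2 := h2) ht.1.symm
  have hC : C = 0 := eq_neg_self (h2 := h2) ht.2
  have hblk : ∀ a ∈ T, (a : Matrix ι ι E).det = 1 →
      (a : Matrix ι ι E) * A = A * a ∧ (a : Matrix ι ι E) * D = D * a := by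
    intro a ha hd
    have h1 := hM _ (blk_mem_wr ha ha) (by rw [det_blk, hd, one_mul])
    simp [coe_blk, fromBlocks_multiply, fromBlocks_inj] at h1
    exact ⟨h1.1, h1.2.2.2⟩
  obtain ⟨c, hc⟩ := hT.cent A fun a ha hd => (hblk a ha hd).1
  have hs := hM _ (swp_mem_wr hT.neg.1) det_swp
  simp [swp, fromBlocks_multiply, fromBlocks_inj] at hs
  refine ⟨c, ?_⟩
  rw [hB, hC, hs.2.1, hc, ← fromBlocks_one, fromBlocks_smul, smul_zero]

/-- An element of odd order normalising the determinant one part of `T ≀ 2` is scalar. -/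
theorem fix_wr {G T : Subgroup (GL ι E)} {G' : Subgroup (GL (ι ⊕ ι) E)} (h2 : (2 : E) ≠ 0)
    (hT : Tower G T) (hsplit : ∀ a b, blk (a, b) ∈ G' → a ∈ G ∧ b ∈ G)
    {g : GL (ι ⊕ ι) E} (hg : g ∈ G') (ho : Odd (orderOf g))
    (hn : ∀ s ∈ wr T, (s : Matrix (ι ⊕ ι) (ι ⊕ ι) E).det = 1 → g * s * g⁻¹ ∈ wr T) : Scal g := by
  obtain ⟨s0, hs0, hs0d, hs0s⟩ := hT.nonscalar
  have : Nonempty ι := by
    by_contra h
    rw [not_nonempty_iff] at h
    exact hs0s ⟨1, Subsingleton.elim _ _⟩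
  have hdet : ∀ (x : GL (ι ⊕ ι) E), (x : Matrix (ι ⊕ ι) (ι ⊕ ι) E).det = 1 →
      ((g⁻¹ * x * g : GL (ι ⊕ ι) E) : Matrix (ι ⊕ ι) (ι ⊕ ι) E).det = 1 ∧
      ((g * x * g⁻¹ : GL (ι ⊕ ι) E) : Matrix (ι ⊕ ι) (ι ⊕ ι) E).det = 1 := by
    intro x hx
    rw [Units.val_mul, Units.val_mul, Units.val_mul, Units.val_mul, det_units_conj', det_units_conj, hx]
    exact ⟨rfl, rfl⟩
  have hn' : ∀ s ∈ wr T, (s : Matrix (ι ⊕ ι) (ι ⊕ ι) E).det = 1 → g⁻¹ * s * g ∈ wr T := by
    intro s hs hd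
    have key : ∀ m : ℕ, g ^ m * s * (g ^ m)⁻¹ ∈ wr T ∧
        ((g ^ m * s * (g ^ m)⁻¹ : GL (ι ⊕ ι) E) : Matrix (ι ⊕ ι) (ι ⊕ ι) E).det = 1 := by
      intro m
      induction m with
      | zero => simpa using ⟨hs, hd⟩
      | succ m ih =>
        rw [show g ^ (m + 1) * s * (g ^ (m + 1))⁻¹ = g * (g ^ m * s * (g ^ m)⁻¹) * g⁻¹ by
          rw [pow_succ']; group]
        exact ⟨hn _ ih.1 ih.2, (hdet _ ih.2).2⟩
    have h := (key (orderOf g - 1)).1
    rwa [show g ^ (orderOf g - 1) = g⁻¹ from (inv_eq_of_mul_eq_one_right (by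
      rw [← pow_succ', Nat.sub_add_cancel (orderOf_pos g), pow_orderOf_eq_one])).symm, inv_inv] at h
  set t : GL (ι ⊕ ι) E := blk (-1, 1) with ht_def
  have htT : t ∈ wr T := blk_mem_wr hT.neg.1 T.one_mem
  have htd : (t : Matrix (ι ⊕ ι) (ι ⊕ ι) E).det = 1 := by
    rw [ht_def, det_blk, hT.neg.2, Units.val_one, det_one, one_mul]
  have htc : ∀ s ∈ wr T, t * s = s * t ∨ t * s = -(s * t) := by
    rintro s ⟨a, -, b, -, hs | hs⟩
    · exact Or.inl (Units.ext (by simp [ht_def, coe_blk, hs, fromBlocks_multiply]))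
    · exact Or.inr (Units.ext (by simp [ht_def, coe_blk, hs, fromBlocks_multiply, fromBlocks_neg]))
  set x := g * t * g⁻¹ with hx_def
  have hxx : x * x = 1 := by
    rw [hx_def, show g * t * g⁻¹ * (g * t * g⁻¹) = g * (t * t) * g⁻¹ by group, ht_def, ← map_mul]
    simp [← Prod.one_eq_mk]
  have hxc : ∀ s ∈ wr T, (s : Matrix (ι ⊕ ι) (ι ⊕ ι) E).det = 1 → x * s = s * x ∨ x * s = -(s * x) := by
    intro s hs hd
    rcases htc _ (hn' s hs hd) with h | h
    · left
      rw [hx_def, show g * t * g⁻¹ * s = g * (t * (g⁻¹ * s * g)) * g⁻¹ by group, h]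
      group
    · right
      rw [hx_def, show g * t * g⁻¹ * s = g * (t * (g⁻¹ * s * g)) * g⁻¹ by group, h, mul_neg, neg_mul]
      congr 1
      group
  have hne : (-1 : Matrix ι ι E) ≠ 1 := fun h => one_ne_zero (eq_neg_self (h2 := h2) h.symm)
  have htne : t ≠ 1 ∧ t ≠ -1 := by
    refine ⟨fun h => hne ?_, fun h => hne ?_⟩
    · have := congrArg (fun z : GL (ι ⊕ ι) E => (z : Matrix (ι ⊕ ι) (ι ⊕ ι) E).toBlocks₁₁) h
      simpa [ht_def, coe_blk, ← fromBlocks_one] using this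
    · have := congrArg (fun z : GL (ι ⊕ ι) E => (z : Matrix (ι ⊕ ι) (ι ⊕ ι) E).toBlocks₂₂) h
      simpa [ht_def, coe_blk, ← fromBlocks_one, fromBlocks_neg] using this.symm
  have hxne : x ≠ 1 ∧ x ≠ -1 := by
    refine ⟨fun h => htne.1 ?_, fun h => htne.2 ?_⟩
    · rw [show t = g⁻¹ * x * g by rw [hx_def]; group, h]; simp
    · rw [show t = g⁻¹ * x * g by rw [hx_def]; group, h]; simp
  have hxt : x = t ∨ x = -t := by
    obtain ⟨a, ha, b, hb, hx | hx⟩ := hn _ htT htd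
    · rw [← hx_def] at hx
      have hsq := congrArg Units.val hxx
      simp [hx, fromBlocks_multiply, ← fromBlocks_one, fromBlocks_inj] at hsq
      have hscal : ∀ s ∈ T, (s : Matrix ι ι E).det = 1 →
          (s : Matrix ι ι E) * a = a * s ∧ (s : Matrix ι ι E) * b = b * s := by
        intro s hs hd
        constructor
        · rcases hxc _ (blk_mem_wr hs T.one_mem) (by rw [det_blk, hd, Units.val_one, det_one, one_mul]) with h | h
          · have h' := congrArg Units.val h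
            simp [hx, coe_blk, fromBlocks_multiply, fromBlocks_inj] at h'
            exact h'.symm
          · have h' := congrArg Units.val h
            simp [hx, coe_blk, fromBlocks_multiply, fromBlocks_inj, fromBlocks_neg] at h'
            exact absurd (eq_neg_self (h2 := h2) h'.2) (ne_zero_coe b)
        · rcases hxc _ (blk_mem_wr T.one_mem hs) (by rw [det_blk, hd, Units.val_one, det_one, one_mul]) with h | h
          · have h' := congrArg Units.val h
            simp [hx, coe_blk, fromBlocks_multiply, fromBlocks_inj] at h'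
            exact h'.symm
          · have h' := congrArg Units.val h
            simp [hx, coe_blk, fromBlocks_multiply, fromBlocks_inj, fromBlocks_neg] at h'
            exact absurd (eq_neg_self (h2 := h2) h'.1) (ne_zero_coe a)
      obtain ⟨c, hc⟩ := hT.cent _ fun s hs hd => (hscal s hs hd).1
      obtain ⟨d, hd⟩ := hT.cent _ fun s hs hd => (hscal s hs hd).2
      have hone : ∀ e : E, ((e • (1 : Matrix ι ι E)) * (e • 1) = 1) → e = 1 ∨ e = -1 := by
        intro e he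
        obtain ⟨i⟩ := ‹Nonempty ι›
        have := congrFun (congrFun he i) i
        simp at this
        exact mul_self_eq_one_iff.1 this
      rcases hone c (hc ▸ hsq.1) with rfl | rfl <;> rcases hone d (hd ▸ hsq.2) with rfl | rfl
      · exact absurd (Units.ext (by simp [hx, hc, hd, fromBlocks_one])) hxne.1
      · exact Or.inr (Units.ext (by simp [ht_def, coe_blk, hx, hc, hd, fromBlocks_neg]))
      · exact Or.inl (Units.ext (by simp [ht_def, coe_blk, hx, hc, hd]))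
      · exact absurd (Units.ext (by simp [hx, hc, hd, ← fromBlocks_one, fromBlocks_neg])) hxne.2
    · rw [← hx_def] at hx
      exfalso
      rcases hxc _ (blk_mem_wr hs0 T.one_mem) (by rw [det_blk, hs0d, Units.val_one, det_one, one_mul]) with h | h
      · have h' := congrArg Units.val h
        simp [hx, coe_blk, fromBlocks_multiply, fromBlocks_inj] at h'
        have e : b * s0 = b := Units.ext (by first | exact h'.2 | exact h'.2.symm)
        exact hs0s ⟨1, by rw [mul_eq_left] at e; rw [e]; simp⟩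
      · have h' := congrArg Units.val h
        simp [hx, coe_blk, fromBlocks_multiply, fromBlocks_inj, fromBlocks_neg] at h'
        have e : b * s0 = b * -1 := by
          rw [mul_neg, mul_one]
          exact Units.ext (by simpa using h'.2)
        exact hs0s ⟨-1, by rw [mul_left_cancel e]; simp⟩
  have hgt : g * t = t * g := by
    rcases hxt with h | h
    · rw [hx_def, mul_inv_eq_iff_eq_mul] at h; exact h
    · rw [hx_def, mul_inv_eq_iff_eq_mul] at h
      exfalso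
      have h2' : g ^ 2 * t = t * g ^ 2 := by
        have h' : g * t = -(t * g) := by rw [h, neg_mul]
        rw [sq, mul_assoc, h', mul_neg, ← mul_assoc, h', neg_mul, neg_neg, mul_assoc]
      have h3 := commute_of_sq ho h2'
      rw [h, neg_mul] at h3
      have h4 : -t = t := by
        have := mul_right_cancel (a := -t) (b := g) (c := t) (by rw [neg_mul]; exact h3)
        exact this
      have h5 := congrArg (fun z : GL (ι ⊕ ι) E => (z : Matrix (ι ⊕ ι) (ι ⊕ ι) E).toBlocks₂₂) h4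
      exact hne (by simpa [ht_def, coe_blk, fromBlocks_neg] using h5)
  have hdiag : ∀ z : GL (ι ⊕ ι) E, z * t = t * z → ∃ A D : Matrix ι ι E,
      (z : Matrix (ι ⊕ ι) (ι ⊕ ι) E) = fromBlocks A 0 0 D := by
    intro z hz
    refine ⟨(z : Matrix (ι ⊕ ι) (ι ⊕ ι) E).toBlocks₁₁, (z : Matrix (ι ⊕ ι) (ι ⊕ ι) E).toBlocks₂₂, ?_⟩
    have h := congrArg Units.val hz
    simp only [Units.val_mul, ht_def, coe_blk] at h
    conv_lhs => rw [← fromBlocks_toBlocks (z : Matrix (ι ⊕ ι) (ι ⊕ ι) E)]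
    rw [← fromBlocks_toBlocks (z : Matrix (ι ⊕ ι) (ι ⊕ ι) E)] at h
    simp [fromBlocks_multiply, fromBlocks_inj] at h
    rw [eq_neg_self (h2 := h2) h.1, eq_neg_self (h2 := h2) h.2.symm]
  obtain ⟨A, D, hgAD⟩ := hdiag g hgt
  obtain ⟨A', D', hgAD'⟩ := hdiag g⁻¹ (by rw [inv_mul_eq_iff_eq_mul, ← mul_assoc, hgt, mul_inv_cancel_right])
  have hmul : (g : Matrix (ι ⊕ ι) (ι ⊕ ι) E) * (g⁻¹ : GL (ι ⊕ ι) E) = 1 := Units.mul_inv g
  have hmul' : ((g⁻¹ : GL (ι ⊕ ι) E) : Matrix (ι ⊕ ι) (ι ⊕ ι) E) * g = 1 := Units.inv_mul g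
  rw [hgAD, hgAD', fromBlocks_multiply, ← fromBlocks_one, fromBlocks_inj] at hmul hmul'
  simp only [Matrix.mul_zero, Matrix.zero_mul, add_zero, zero_add, true_and] at hmul hmul'
  let gA : GL ι E := ⟨A, A', hmul.1, hmul'.1⟩
  let gD : GL ι E := ⟨D, D', hmul.2, hmul'.2⟩
  have hg' : g = blk (gA, gD) := Units.ext hgAD
  have hinj : Function.Injective (blk (E := E) (ι := ι)) := fun p p' h => by
    have h' := congrArg Units.val h
    rw [coe_blk p.1 p.2, coe_blk p'.1 p'.2, fromBlocks_inj] at h'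
    exact Prod.ext (Units.ext h'.1) (Units.ext h'.2.2.2)
  have hgn : (gA, gD) ^ orderOf g = 1 := hinj (by rw [map_pow, ← hg', pow_orderOf_eq_one, map_one])
  have hoA : Odd (orderOf gA) := ho.of_dvd_nat (orderOf_dvd_of_pow_eq_one (by simpa using congrArg Prod.fst hgn))
  have hoD : Odd (orderOf gD) := ho.of_dvd_nat (orderOf_dvd_of_pow_eq_one (by simpa using congrArg Prod.snd hgn))
  have hnorm : ∀ s ∈ T, gA * s * gA⁻¹ ∈ T ∧ gD * s * gD⁻¹ ∈ T := by
    intro s hs
    have hd : ((blk (s, s⁻¹) : GL (ι ⊕ ι) E) : Matrix (ι ⊕ ι) (ι ⊕ ι) E).det = 1 := by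
      rw [det_blk, ← det_mul, ← Units.val_mul, mul_inv_cancel, Units.val_one, det_one]
    obtain ⟨a, ha, b, hb, h | h⟩ := hn _ (blk_mem_wr hs (T.inv_mem hs)) hd
    · rw [hg', ← map_inv, ← map_mul, ← map_mul] at h
      simp only [Prod.mk_mul_mk, Prod.inv_mk] at h
      rw [coe_blk, fromBlocks_inj] at h
      rw [Units.ext h.1]
      refine ⟨ha, ?_⟩
      have hb' : gD * s⁻¹ * gD⁻¹ = b := Units.ext h.2.2.2
      have := T.inv_mem (hb' ▸ hb)
      simpa [mul_assoc] using this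
    · rw [hg', ← map_inv, ← map_mul, ← map_mul] at h
      simp only [Prod.mk_mul_mk, Prod.inv_mk] at h
      rw [coe_blk, fromBlocks_inj] at h
      exact absurd h.1 (ne_zero_coe _)
  obtain ⟨hGA, hGD⟩ := hsplit _ _ (hg' ▸ hg)
  obtain ⟨c, hc⟩ := hT.fix gA hGA hoA fun s hs => (hnorm s hs).1
  obtain ⟨d, hd⟩ := hT.fix gD hGD hoD fun s hs => (hnorm s hs).2
  refine ⟨c, ?_⟩
  suffices hgc : gA = gD by
    rw [hg', coe_blk, ← hgc, hc, ← fromBlocks_one, fromBlocks_smul, smul_zero]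
  obtain ⟨a, ha, b, hb, h | h⟩ := hn _ (swp_mem_wr hT.neg.1) det_swp
  · rw [hg', ← map_inv] at h
    simp [coe_blk, swp, fromBlocks_multiply, fromBlocks_inj] at h
    exact absurd h.1.symm (ne_zero_coe a)
  · rw [hg', ← map_inv] at h
    simp [coe_blk, swp, fromBlocks_multiply, fromBlocks_inj] at h
    have hmem : gA * gD⁻¹ ∈ T := by rwa [show gA * gD⁻¹ = a from Units.ext (by rw [Units.val_mul, coe_units_inv]; exact h.1)]
    obtain ⟨k, hk⟩ := two_pow_of_mem hT.pgroup hmem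
    have hcomm : Commute gA gD⁻¹ := (Scal.commute ⟨c, hc⟩ _)
    have hm : (gA * gD⁻¹) ^ orderOf g = 1 := by
      rw [hcomm.mul_pow, inv_pow, show gA ^ orderOf g = 1 by simpa using congrArg Prod.fst hgn,
        show gD ^ orderOf g = 1 by simpa using congrArg Prod.snd hgn, inv_one, one_mul]
    exact mul_inv_eq_one.1 (eq_one_of_odd_two hk ho hm)

/-- The doubling step. -/
theorem step {G T : Subgroup (GL ι E)} {G' : Subgroup (GL (ι ⊕ ι) E)} (h2 : (2 : E) ≠ 0)
    (hT : Tower G T) (hsplit : ∀ a b, blk (a, b) ∈ G' → a ∈ G ∧ b ∈ G) (hle : wr T ≤ G')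
    (hcard : (Nat.card G').factorization 2 = 2 * (Nat.card G).factorization 2 + 1) :
    Tower G' (wr T) ∧ ∀ g ∈ G', Odd (orderOf g) →
      (∀ s ∈ wr T, (s : Matrix (ι ⊕ ι) (ι ⊕ ι) E).det = 1 → g * s * g⁻¹ ∈ wr T) → Scal g := by
  obtain ⟨s0, hs0, hs0d, hs0s⟩ := hT.nonscalar
  have : Nonempty ι := by
    by_contra h
    rw [not_nonempty_iff] at h
    exact hs0s ⟨1, Subsingleton.elim _ _⟩
  have hc : Nat.card (wr T) = 2 ^ (Nat.card G').factorization 2 := by
    rw [card_wr, hT.card, hcard, ← pow_mul, mul_comm 2 (2 ^ _), ← pow_succ, mul_comm _ 2]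
  have hfix := fun g (hg : g ∈ G') ho hn => fix_wr h2 hT hsplit (g := g) hg ho hn
  refine ⟨⟨hle, IsPGroup.of_card hc, ⟨?_, ?_⟩, ?_, cent_wr h2 hT,
    fun g hg ho hn => hfix g hg ho fun s hs _ => hn s hs, hc⟩, hfix⟩
  · exact ⟨-1, hT.neg.1, -1, hT.neg.1, Or.inl (by simp [← fromBlocks_one, fromBlocks_neg])⟩
  · rw [show (-1 : GL (ι ⊕ ι) E) = blk ((-1 : GL ι E), (-1 : GL ι E)) from
      Units.ext (by simp [coe_blk, ← fromBlocks_one, fromBlocks_neg]), det_blk, hT.neg.2, one_mul]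
  · refine ⟨blk (s0, 1), blk_mem_wr hs0 T.one_mem, by rw [det_blk, hs0d, Units.val_one, det_one, one_mul], ?_⟩
    rintro ⟨c, hc⟩
    rw [coe_blk, ← fromBlocks_one, fromBlocks_smul, fromBlocks_inj] at hc
    exact hs0s ⟨c, hc.1⟩

end CfsgLib.Pronormal.SylowTwo
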