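import Cfsg.Agent.Lib.Pronormal.SylowTwo
import Cfsg.Agent.Lib.SL2.Facts

set_option autoImplicit false

/-!
# The base of the tower: odd elements normalising a Sylow 2-subgroup in degree two
-/

namespace CfsgLib.Pronormal.SylowTwo

open Matrix

variable {E : Type*} [Field E]

theorem two_sq (z : Matrix (Fin 2) (Fin 2) E) : z * z - z.trace • z + z.det • 1 = 0 := by
  ext i j
  fin_cases i <;> fin_cases j <;> simp [Matrix.mul_apply, Fin.sum_univ_two, trace_fin_two, det_fin_two] <;> ring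

/-- The commutant of a non-scalar `2 × 2` matrix is `E[x]`. -/
theorem commutant {x : Matrix (Fin 2) (Fin 2) E} (hx : ∀ c : E, x ≠ c • 1) {M : Matrix (Fin 2) (Fin 2) E}
    (h : x * M = M * x) : ∃ α β : E, M = α • 1 + β • x := by
  have e00 := congrFun (congrFun h 0) 0
  have e01 := congrFun (congrFun h 0) 1
  have e10 := congrFun (congrFun h 1) 0
  simp [Matrix.mul_apply, Fin.sum_univ_two] at e00 e01 e10
  by_cases h01 : x 0 1 ≠ 0
  · refine ⟨M 0 0 - M 0 1 / x 0 1 * x 0 0, M 0 1 / x 0 1, ?_⟩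
    ext i j
    fin_cases i <;> fin_cases j <;> simp [h01]
    · field_simp
      linear_combination e00
    · field_simp
      linear_combination e01
  push Not at h01
  by_cases h10 : x 1 0 ≠ 0
  · refine ⟨M 0 0 - M 1 0 / x 1 0 * x 0 0, M 1 0 / x 1 0, ?_⟩
    ext i j
    fin_cases i <;> fin_cases j <;> simp [h10, h01]
    · have : M 0 1 * x 1 0 = 0 := by linear_combination -e00 + M 1 0 * h01
      exact (mul_eq_zero.1 this).resolve_right h10
    · field_simp
      linear_combination -e10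
  push Not at h10
  have hd : x 0 0 - x 1 1 ≠ 0 := fun hd => hx (x 0 0) (by
    ext i j
    fin_cases i <;> fin_cases j <;> simp [h01, h10, ← sub_eq_zero.1 hd])
  have m01 : M 0 1 = 0 := by
    have : M 0 1 * (x 0 0 - x 1 1) = 0 := by linear_combination e01 + (M 0 0 - M 1 1) * h01
    exact (mul_eq_zero.1 this).resolve_right hd
  have m10 : M 1 0 = 0 := by
    have : M 1 0 * (x 0 0 - x 1 1) = 0 := by linear_combination -e10 + (M 0 0 - M 1 1) * h10
    exact (mul_eq_zero.1 this).resolve_right hd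
  refine ⟨M 0 0 - (M 0 0 - M 1 1) / (x 0 0 - x 1 1) * x 0 0, (M 0 0 - M 1 1) / (x 0 0 - x 1 1), ?_⟩
  ext i j
  fin_cases i <;> fin_cases j <;> simp [h01, h10, m01, m10]
  field_simp
  ring

theorem GL_two_sq (x : GL (Fin 2) E) (hd : (x : Matrix (Fin 2) (Fin 2) E).det = 1) :
    (x : Matrix (Fin 2) (Fin 2) E) + (x⁻¹ : GL (Fin 2) E) = (x : Matrix (Fin 2) (Fin 2) E).trace • 1 := by
  have h := congrArg ((↑(x⁻¹ : GL (Fin 2) E) : Matrix (Fin 2) (Fin 2) E) * ·) (two_sq (x : Matrix (Fin 2) (Fin 2) E))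
  simp only [hd, one_smul, mul_add, mul_sub, mul_smul_comm, ← mul_assoc, Units.inv_mul, one_mul, mul_one, mul_zero] at h
  rwa [sub_add_eq_add_sub, sub_eq_zero] at h

theorem scal_of_eq_neg {x : GL (Fin 2) E} (h : x = 1 ∨ x = -1) : Scal x := by
  rcases h with rfl | rfl
  · exact ⟨1, by simp⟩
  · exact ⟨-1, by simp⟩

section

variable (h2 : (2 : E) ≠ 0)
include h2

/-- An involution of determinant one is `-1`. -/
theorem sq_one {z : GL (Fin 2) E} (hd : (z : Matrix (Fin 2) (Fin 2) E).det = 1) (hz : z * z = 1) :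
    z = 1 ∨ z = -1 := by
  have h := two_sq (z : Matrix (Fin 2) (Fin 2) E)
  rw [← Units.val_mul, hz, Units.val_one, hd, one_smul] at h
  have hτ : (z : Matrix (Fin 2) (Fin 2) E).trace ≠ 0 := by
    intro h0
    rw [h0, zero_smul, sub_zero] at h
    have := congrFun (congrFun h 0) 0
    simp at this
    exact h2 (by rw [← this]; norm_num)
  have hs : (z : Matrix (Fin 2) (Fin 2) E) =
      ((z : Matrix (Fin 2) (Fin 2) E).trace⁻¹ * 2) • (1 : Matrix (Fin 2) (Fin 2) E) := by
    rw [sub_add_eq_add_sub, sub_eq_zero] at h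
    rw [mul_smul, two_smul, h, inv_smul_smul₀ hτ]
  set c := (z : Matrix (Fin 2) (Fin 2) E).trace⁻¹ * 2
  have hc : c * c = 1 := by
    have := congrArg (fun M : Matrix (Fin 2) (Fin 2) E => M 0 0) (congrArg Units.val hz)
    rw [Units.val_mul, hs] at this
    simpa using this
  rcases mul_self_eq_one_iff.1 hc with h' | h' <;> [left; right] <;> exact Units.ext (by rw [hs, h']; simp)

/-- An element with a commuting conjugate. -/
theorem eq_or_eq_inv {x g : GL (Fin 2) E} (hd : (x : Matrix (Fin 2) (Fin 2) E).det = 1)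
    {k : ℕ} (hk : x ^ 2 ^ k = 1) (hns : ¬ Scal x)
    (hc : x * (g * x * g⁻¹) = g * x * g⁻¹ * x) : g * x * g⁻¹ = x ∨ g * x * g⁻¹ = x⁻¹ := by
  set y := g * x * g⁻¹ with hy
  obtain ⟨α, β, hab⟩ := commutant (fun c h => hns ⟨c, h⟩) (congrArg Units.val hc)
  have ht : (y : Matrix (Fin 2) (Fin 2) E).trace = (x : Matrix (Fin 2) (Fin 2) E).trace := by
    rw [hy, Units.val_mul, Units.val_mul, Matrix.trace_units_conj]
  have hyd : (y : Matrix (Fin 2) (Fin 2) E).det = 1 := by
    rw [hy, Units.val_mul, Units.val_mul, Matrix.det_units_conj, hd]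
  rw [hab] at ht hyd
  rw [trace_fin_two, trace_fin_two] at ht
  rw [det_fin_two] at hyd hd
  simp at ht hyd
  set a := (x : Matrix (Fin 2) (Fin 2) E) 0 0
  set b := (x : Matrix (Fin 2) (Fin 2) E) 0 1
  set c := (x : Matrix (Fin 2) (Fin 2) E) 1 0
  set d := (x : Matrix (Fin 2) (Fin 2) E) 1 1
  have key : (1 - β ^ 2) * ((a + d) ^ 2 - 4) = 0 := by
    have hα : 2 * α = (a + d) * (1 - β) := by linear_combination ht
    linear_combination 4 * hyd - (2 * α + (a + d) * (1 + β)) * hα - 4 * β ^ 2 * hd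
  rcases mul_eq_zero.1 key with h | h
  · rcases sq_eq_one_iff.1 (show β ^ 2 = 1 by linear_combination -h) with rfl | rfl
    · left
      have hα : α = 0 := (mul_eq_zero.1 (show (2 : E) * α = 0 by linear_combination ht)).resolve_left h2
      exact Units.ext (by rw [hab, hα]; simp)
    · right
      have hα : α = a + d :=
        mul_left_cancel₀ h2 (show (2 : E) * α = 2 * (a + d) by linear_combination ht)
      refine Units.ext ?_
      rw [hab, hα, neg_smul, one_smul, ← trace_fin_two, ← GL_two_sq x (by rw [det_fin_two]; exact hd)]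
      abel
  · exfalso
    obtain ⟨e, he, he1⟩ : ∃ e : E, a + d = 2 * e ∧ e * e = 1 := by
      refine ⟨(a + d) / 2, (mul_div_cancel₀ _ h2).symm, ?_⟩
      rw [div_mul_div_comm, div_eq_one_iff_eq (mul_ne_zero h2 h2)]
      linear_combination h
    set N : Matrix (Fin 2) (Fin 2) E := (x : Matrix (Fin 2) (Fin 2) E) - e • 1 with hN
    have hN2 : N * N = 0 := by
      ext i j
      fin_cases i <;> fin_cases j <;> simp [hN, Matrix.mul_apply, Fin.sum_univ_two]
      · linear_combination a * he + he1 - hd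
      · linear_combination b * he
      · linear_combination c * he
      · linear_combination d * he + he1 - hd
    have hp : ∀ m : ℕ, (x : Matrix (Fin 2) (Fin 2) E) ^ m = e ^ m • 1 + ((m : E) * e ^ (m + 1)) • N := by
      intro m
      induction m with
      | zero => simp
      | succ m ih =>
        rw [pow_succ, ih, show (x : Matrix (Fin 2) (Fin 2) E) = e • 1 + N by rw [hN]; abel]
        simp only [add_mul, mul_add, smul_mul_assoc, mul_smul_comm, one_mul, mul_one, hN2, smul_zero, add_zero,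
          smul_smul, smul_add]
        rw [show e ^ (m + 1) = e ^ m * e from pow_succ e m, show ((m + 1 : ℕ) : E) = (m : E) + 1 by push_cast; rfl,
          show e ^ (m + 1 + 1) = e ^ m * (e * e) by rw [pow_succ, pow_succ, mul_assoc],
          he1, show e * ((m : E) * (e ^ m * e)) = (m : E) * e ^ m by
            rw [show e * ((m : E) * (e ^ m * e)) = (m : E) * e ^ m * (e * e) by ring, he1, mul_one],
          mul_comm e (e ^ m), mul_one]
        module
    have h1 := hp (2 ^ k * 2)
    rw [pow_mul (x : Matrix (Fin 2) (Fin 2) E), ← Units.val_pow_eq_pow_val, hk, Units.val_one, one_pow,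
      show e ^ (2 ^ k * 2) = 1 by rw [mul_comm, pow_mul, sq, he1, one_pow],
      show e ^ (2 ^ k * 2 + 1) = e by rw [pow_succ, mul_comm (2 ^ k), pow_mul, sq, he1, one_pow, one_mul],
      one_smul, left_eq_add, smul_eq_zero] at h1
    rcases h1 with h1 | h1
    · push_cast at h1
      rcases mul_eq_zero.1 h1 with h1 | h1
      · rcases mul_eq_zero.1 h1 with h1 | h1
        · exact h2 (pow_eq_zero_iff'.1 h1).1
        · exact h2 h1
      · rw [h1, mul_zero] at he1
        exact zero_ne_one he1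
    · exact hns ⟨e, sub_eq_zero.1 h1⟩

end

set_option synthInstance.maxSize 2000 in
set_option maxRecDepth 4000 in
/-- Permutations of three points. -/
theorem perm_three : ∀ c p : Equiv.Perm (Fin 3),
    c * c * c = 1 → p * p = 1 → (c * p * c⁻¹ * p) * (c * p * c⁻¹ * p) = 1 → c = 1 ∨ p = 1 := by
  decide

theorem perm_three_order : ∀ c : Equiv.Perm (Fin 3), c * c = 1 ∨ c * c * c = 1 := by
  decide

variable [Finite E]

/-- Elements of order at least 8 in a 2-subgroup of `SL₂` commute. -/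
theorem commute_order_eight (hodd : Odd (Nat.card E)) {T : Subgroup (GL (Fin 2) E)} (hT : IsPGroup 2 T)
    {x y : GL (Fin 2) E} (hx : x ∈ T) (hy : y ∈ T) (hxd : (x : Matrix (Fin 2) (Fin 2) E).det = 1)
    (hyd : (y : Matrix (Fin 2) (Fin 2) E).det = 1) (hx4 : x ^ 4 ≠ 1) (hy4 : y ^ 4 ≠ 1) : x * y = y * x := by
  have := Fact.mk Nat.prime_two
  let f : SpecialLinearGroup (Fin 2) E →* GL (Fin 2) E := SpecialLinearGroup.toGL
  have hf : Function.Injective f := fun a b h =>
    Subtype.ext (congrArg (fun z : GL (Fin 2) E => (z : Matrix (Fin 2) (Fin 2) E)) h)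
  obtain ⟨S, hS⟩ := (hT.comap_of_injective f hf).exists_le_sylow
  obtain ⟨k, -, ⟨e⟩⟩ := CfsgLib.SL2.sylow_two_quaternion hodd S
  let a : (S : Subgroup (SpecialLinearGroup (Fin 2) E)) :=
    ⟨⟨(x : Matrix (Fin 2) (Fin 2) E), hxd⟩, hS (by
      show f (⟨(x : Matrix (Fin 2) (Fin 2) E), hxd⟩ : SpecialLinearGroup (Fin 2) E) ∈ T
      rwa [show f (⟨(x : Matrix (Fin 2) (Fin 2) E), hxd⟩ : SpecialLinearGroup (Fin 2) E) = x from Units.ext rfl])⟩
  let b : (S : Subgroup (SpecialLinearGroup (Fin 2) E)) :=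
    ⟨⟨(y : Matrix (Fin 2) (Fin 2) E), hyd⟩, hS (by
      show f (⟨(y : Matrix (Fin 2) (Fin 2) E), hyd⟩ : SpecialLinearGroup (Fin 2) E) ∈ T
      rwa [show f (⟨(y : Matrix (Fin 2) (Fin 2) E), hyd⟩ : SpecialLinearGroup (Fin 2) E) = y from Units.ext rfl])⟩
  have hcase : ∀ (z : (S : Subgroup (SpecialLinearGroup (Fin 2) E))), z ^ 4 ≠ 1 → ∃ i, e z = QuaternionGroup.a i := by
    intro z hz
    rcases hez : e z with i | i
    · exact ⟨i, rfl⟩
    · exfalso
      apply hz
      apply e.injective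
      rw [map_pow, hez, map_one, show (4 : ℕ) = 2 * 2 from rfl, pow_mul, sq, sq, QuaternionGroup.xa_mul_xa,
        QuaternionGroup.a_mul_a, QuaternionGroup.one_def]
      congr 1
      rw [show ((2 ^ k : ℕ) : ZMod (2 * 2 ^ k)) + i - i = ((2 ^ k : ℕ) : ZMod (2 * 2 ^ k)) by ring,
        ← Nat.cast_add, ← two_mul, ZMod.natCast_self]
  have hne : ∀ (z : GL (Fin 2) E) (z' : (S : Subgroup (SpecialLinearGroup (Fin 2) E))),
      ((z' : SpecialLinearGroup (Fin 2) E) : Matrix (Fin 2) (Fin 2) E) = z → z ^ 4 ≠ 1 → z' ^ 4 ≠ 1 := by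
    intro z z' h hz h'
    apply hz
    refine Units.ext ?_
    have h'' := congrArg (fun u : (S : Subgroup (SpecialLinearGroup (Fin 2) E)) =>
      ((u : SpecialLinearGroup (Fin 2) E) : Matrix (Fin 2) (Fin 2) E)) h'
    simp only [SubmonoidClass.coe_pow, OneMemClass.coe_one, SpecialLinearGroup.coe_pow,
      SpecialLinearGroup.coe_one] at h''
    rw [Units.val_pow_eq_pow_val, ← h, Units.val_one]
    exact h''
  obtain ⟨i, hi⟩ := hcase a (hne x a rfl hx4)
  obtain ⟨j, hj⟩ := hcase b (hne y b rfl hy4)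
  have hab : a * b = b * a := e.injective (by
    rw [map_mul, map_mul, hi, hj, QuaternionGroup.a_mul_a, QuaternionGroup.a_mul_a, add_comm])
  exact Units.ext (congrArg (fun z : (S : Subgroup (SpecialLinearGroup (Fin 2) E)) =>
    ((z : SpecialLinearGroup (Fin 2) E) : Matrix (Fin 2) (Fin 2) E)) hab)

/-- The base of the tower. -/
theorem base (hodd : Odd (Nat.card E)) (G : Subgroup (GL (Fin 2) E)) (w j : GL (Fin 2) E)
    (hw : w ∈ G) (hj : j ∈ G) (hwd : (w : Matrix (Fin 2) (Fin 2) E).det = 1)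
    (hjd : (j : Matrix (Fin 2) (Fin 2) E).det = 1) (hw2 : w * w = -1) (hj2 : j * j = -1)
    (hwj : w * j = -(j * w))
    (hdetG : ∀ g ∈ G, ∃ z ∈ G, (z : Matrix (Fin 2) (Fin 2) E) = (g : Matrix (Fin 2) (Fin 2) E).det • 1)
    (hns : ∃ d ∈ G, ∀ z ∈ G, Scal z → (z : Matrix (Fin 2) (Fin 2) E).det ≠ (d : Matrix (Fin 2) (Fin 2) E).det) :
    ∃ T, Tower G T := by
  have := Fact.mk Nat.prime_two
  have h2 : (2 : E) ≠ 0 := CfsgLib.SL2.odd_card_two_ne_zero hodd
  have hne : (1 : GL (Fin 2) E) ≠ -1 := fun h => by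
    have := congrArg (fun M : Matrix (Fin 2) (Fin 2) E => M 0 0) (congrArg Units.val h)
    simp at this
    exact h2 (by linear_combination this)
  have h41 : ∀ z : GL (Fin 2) E, z * z = -1 → z ^ (2 ^ 2) = 1 := fun z hz => by
    rw [show (2 : ℕ) ^ 2 = 2 * 2 from rfl, pow_mul, sq z, hz]; simp
  have hp : ∀ z : GL (Fin 2) E, z * z = -1 → IsPGroup 2 (Subgroup.zpowers z) := fun z hz => by
    obtain ⟨i, -, hi⟩ := (Nat.dvd_prime_pow Nat.prime_two).1 (orderOf_dvd_of_pow_eq_one (h41 z hz))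
    exact IsPGroup.of_card (n := i) (by rw [Nat.card_zpowers, hi])
  have hnorm : Subgroup.zpowers j ≤ Subgroup.normalizer ((Subgroup.zpowers w : Subgroup (GL (Fin 2) E)) : Set (GL (Fin 2) E)) := by
    have hc : ∀ z : GL (Fin 2) E, z * w * z⁻¹ = w⁻¹ → ∀ v ∈ Subgroup.zpowers w, z * v * z⁻¹ ∈ Subgroup.zpowers w := by
      rintro z hz v ⟨i, rfl⟩
      show z * w ^ i * z⁻¹ ∈ Subgroup.zpowers w
      rw [← conj_zpow, hz]
      exact Subgroup.zpow_mem _ (Subgroup.inv_mem _ (Subgroup.mem_zpowers w)) _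
    have hwi : w⁻¹ = -w := inv_eq_of_mul_eq_one_right (by rw [mul_neg, hw2, neg_neg])
    have hjw : j * w * j⁻¹ = w⁻¹ := by
      rw [hwi, show j * w = -(w * j) by rw [hwj, neg_neg], neg_mul, mul_inv_cancel_right]
    rw [Subgroup.zpowers_le]
    refine Subgroup.mem_normalizer_fintype fun v hv => hc j hjw v hv
  obtain ⟨T', hT'⟩ := (IsPGroup.to_sup_of_normal_left' (hp w hw2) (hp j hj2) hnorm).comap_subtype (K := G) |>.exists_le_sylow
  set T : Subgroup (GL (Fin 2) E) := (T' : Subgroup G).map G.subtype with hTdef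
  have hTG : T ≤ G := Subgroup.map_subtype_le _
  have hTp : IsPGroup 2 T := T'.isPGroup'.map _
  have hwT : w ∈ T := ⟨⟨w, hw⟩, hT' (show w ∈ _ from Subgroup.mem_sup_left (Subgroup.mem_zpowers w)), rfl⟩
  have hjT : j ∈ T := ⟨⟨j, hj⟩, hT' (show j ∈ _ from Subgroup.mem_sup_right (Subgroup.mem_zpowers j)), rfl⟩
  have hnT : (-1 : GL (Fin 2) E) ∈ T := hw2 ▸ T.mul_mem hwT hwT
  have hnd : ((-1 : GL (Fin 2) E) : Matrix (Fin 2) (Fin 2) E).det = 1 := by
    rw [Units.val_neg, Units.val_one, det_neg, det_one]; simp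
  have hwns : ¬ Scal w := fun ⟨c, hc⟩ => by
    have := congrArg Units.val hwj
    rw [Units.val_neg, Units.val_mul, Units.val_mul, hc] at this
    simp at this
    have h0 := SylowTwo.eq_neg_self (h2 := h2) this
    rcases smul_eq_zero.1 h0 with h0 | h0
    · exact w.ne_zero (by rw [hc, h0, zero_smul])
    · exact j.ne_zero h0
  have hjns : ¬ Scal j := fun hs => by
    have := (hs.commute w)
    rw [hwj] at this
    have h0 := congrArg Units.val this
    rw [Units.val_neg] at h0
    exact (w * j).ne_zero (by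
      rw [hwj, Units.val_neg, neg_eq_zero]
      exact SylowTwo.eq_neg_self (h2 := h2) h0)
  have hcent : ∀ M : Matrix (Fin 2) (Fin 2) E, (w : Matrix (Fin 2) (Fin 2) E) * M = M * w →
      (j : Matrix (Fin 2) (Fin 2) E) * M = M * j → ∃ c : E, M = c • 1 := by
    intro M hMw hMj
    obtain ⟨α, β, rfl⟩ := commutant (fun c h => hwns ⟨c, h⟩) hMw
    simp only [mul_add, add_mul, mul_smul_comm, smul_mul_assoc, mul_one, one_mul, add_right_inj] at hMj
    rcases eq_or_ne β 0 with rfl | hβ
    · exact ⟨α, by simp⟩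
    · exfalso
      have h1 : ((j * w : GL (Fin 2) E) : Matrix (Fin 2) (Fin 2) E) = (w * j : GL (Fin 2) E) :=
        smul_right_injective _ hβ (by simpa only [Units.val_mul] using hMj)
      rw [hwj, Units.val_neg] at h1
      exact (j * w).ne_zero (SylowTwo.eq_neg_self (h2 := h2) h1)
  -- the determinant one part
  let Q : Subgroup (GL (Fin 2) E) := T ⊓ (GeneralLinearGroup.det : GL (Fin 2) E →* Eˣ).ker
  have hQ : ∀ z, z ∈ Q ↔ z ∈ T ∧ (z : Matrix (Fin 2) (Fin 2) E).det = 1 := fun z => by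
    rw [Subgroup.mem_inf, MonoidHom.mem_ker, Units.ext_iff]
    rfl
  refine ⟨T, hTG, hTp, ⟨hnT, hnd⟩, ⟨w, hwT, hwd, hwns⟩,
    fun M hM => hcent M (hM w hwT hwd) (hM j hjT hjd), ?_, ?_⟩
  swap
  · rw [hTdef, Subgroup.card_subtype]
    exact T'.card_eq_multiplicity
  intro g hg ho hn
  have hnQ : ∀ h ∈ Subgroup.normalizer (T : Set (GL (Fin 2) E)), ∀ z ∈ Q, h * z * h⁻¹ ∈ Q := by
    intro h hh z hz
    rw [hQ] at hz ⊢
    refine ⟨(Subgroup.mem_normalizer_iff.1 hh z).1 hz.1, ?_⟩
    rw [Units.val_mul, Units.val_mul, Matrix.det_units_conj, hz.2]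
  have hgN : g ∈ Subgroup.normalizer (T : Set (GL (Fin 2) E)) := Subgroup.mem_normalizer_fintype hn
  by_cases h8 : ∃ x ∈ Q, x ^ 4 ≠ 1
  · obtain ⟨x, hxQ, hx4⟩ := h8
    obtain ⟨hxT, hxd⟩ := (hQ x).1 hxQ
    have hxns : ¬ Scal x := by
      rintro ⟨c, hc⟩
      apply hx4
      have : c * c = 1 := by rw [hc, det_smul, det_one] at hxd; simpa [sq] using hxd
      refine Units.ext ?_
      rw [Units.val_pow_eq_pow_val, hc, smul_pow, one_pow, show c ^ 4 = (c * c) * (c * c) by ring, this]
      simp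
    obtain ⟨k, hk⟩ := two_pow_of_mem hTp hxT
    have hconj : ∀ h ∈ Subgroup.normalizer (T : Set (GL (Fin 2) E)), h * x * h⁻¹ = x ∨ h * x * h⁻¹ = x⁻¹ := by
      intro h hh
      obtain ⟨hT1, hd1⟩ := (hQ _).1 (hnQ h hh x hxQ)
      refine eq_or_eq_inv (h2 := h2) hxd hk hxns (commute_order_eight hodd hTp hxT hT1 hxd hd1 hx4 fun h4 => hx4 ?_)
      rw [conj_pow] at h4
      exact (conj_eq_one_iff).1 h4
    have hgx : g * x = x * g := by
      refine commute_of_sq ho ?_
      have h1 : g ^ 2 * x * (g ^ 2)⁻¹ = x := by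
        rw [show g ^ 2 * x * (g ^ 2)⁻¹ = g * (g * x * g⁻¹) * g⁻¹ by rw [sq, _root_.mul_inv_rev]; simp [mul_assoc]]
        rcases hconj g hgN with h | h
        · rw [h, h]
        · rw [h, ← _root_.inv_inj, ← conj_inv, inv_inv, h]
      rwa [mul_inv_eq_iff_eq_mul] at h1
    obtain ⟨α, β, hab⟩ := commutant (fun c h => hxns ⟨c, h⟩) (congrArg Units.val hgx.symm)
    obtain ⟨s, hsT, hsd, hsx⟩ : ∃ s ∈ T, (s : Matrix (Fin 2) (Fin 2) E).det = 1 ∧ s * x * s⁻¹ ≠ x := by
      by_contra hc
      push Not at hc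
      refine hxns (hcent x ?_ ?_)
      · exact congrArg Units.val (mul_inv_eq_iff_eq_mul.1 (hc w hwT hwd))
      · exact congrArg Units.val (mul_inv_eq_iff_eq_mul.1 (hc j hjT hjd))
    have hsxi : s * x * s⁻¹ = x⁻¹ := (hconj s (Subgroup.le_normalizer hsT)).resolve_left hsx
    set gb := s * g * s⁻¹ with hgb
    have hgb' : (gb : Matrix (Fin 2) (Fin 2) E) = α • 1 + β • (x⁻¹ : GL (Fin 2) E) := by
      rw [← hsxi, hgb, Units.val_mul, Units.val_mul, Units.val_mul, Units.val_mul, hab]
      simp only [mul_add, add_mul, mul_smul_comm, smul_mul_assoc, mul_one, Units.mul_inv]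
    have hcomm : Commute g gb := by
      refine Units.ext ?_
      show (g : Matrix (Fin 2) (Fin 2) E) * gb = gb * g
      rw [hab, hgb']
      simp only [mul_add, add_mul, mul_smul_comm, smul_mul_assoc, mul_one, one_mul, Units.mul_inv, Units.inv_mul, smul_smul]
      module
    have hscal : Scal (g * gb) := by
      refine ⟨α * α + α * β * (x : Matrix (Fin 2) (Fin 2) E).trace + β * β, ?_⟩
      rw [Units.val_mul, hab, hgb', add_smul, add_smul, mul_smul (α * β), ← GL_two_sq x hxd]
      simp only [mul_add, add_mul, mul_smul_comm, smul_mul_assoc, mul_one, one_mul, Units.mul_inv, smul_smul]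
      module
    have hm : g * gb⁻¹ ∈ T := by
      rw [hgb, show g * (s * g * s⁻¹)⁻¹ = g * s * g⁻¹ * s⁻¹ by group]
      exact T.mul_mem (hn s hsT) (T.inv_mem hsT)
    obtain ⟨l, hl⟩ := two_pow_of_mem hTp hm
    rw [hcomm.inv_right.mul_pow, inv_pow, mul_inv_eq_one] at hl
    refine Scal.of_odd (k := l + 1) ?_ ho
    rw [pow_succ, pow_mul, sq]
    nth_rewrite 2 [hl]
    rw [← hcomm.mul_pow]
    obtain ⟨c, hc⟩ := hscal
    exact ⟨c ^ 2 ^ l, by rw [Units.val_pow_eq_pow_val, hc, smul_pow, one_pow]⟩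
  · push Not at h8
    have hsq : ∀ z ∈ Q, z = 1 ∨ z = -1 ∨ (z * z = -1) := by
      intro z hz
      obtain ⟨-, hd⟩ := (hQ z).1 hz
      have hd2 : ((z * z : GL (Fin 2) E) : Matrix (Fin 2) (Fin 2) E).det = 1 := by
        rw [Units.val_mul, det_mul, hd, one_mul]
      rcases sq_one (h2 := h2) hd2 (by rw [← h8 z hz]; simp only [pow_succ, pow_zero, one_mul, mul_assoc]) with h | h
      · rcases sq_one (h2 := h2) hd h with h' | h'
        · exact Or.inl h'
        · exact Or.inr (Or.inl h')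
      · exact Or.inr (Or.inr h)
    have hanti : ∀ z ∈ Q, ∀ v ∈ Q, v * v = -1 → z = v ∨ z = -v ∨ z = 1 ∨ z = -1 ∨ z * v = -(v * z) := by
      intro z hz v hv hvv
      have hvi : v⁻¹ = -v := inv_eq_of_mul_eq_one_right (by rw [mul_neg, hvv, neg_neg])
      rcases hsq z hz with rfl | rfl | hzz
      · simp
      · simp
      rcases hsq _ (Q.mul_mem hz hv) with h | h | h
      · exact Or.inr (Or.inl ((eq_inv_of_mul_eq_one_left h).trans hvi))
      · exact Or.inl (by rw [← mul_inv_cancel_right z v, h, hvi]; simp)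
      · refine Or.inr (Or.inr (Or.inr (Or.inr ?_)))
        have hvz : v * z = (z * v)⁻¹ := by
          rw [_root_.mul_inv_rev, hvi, inv_eq_of_mul_eq_one_right (show z * -z = 1 by rw [mul_neg, hzz, neg_neg])]
          simp
        rw [hvz, inv_eq_of_mul_eq_one_right (show z * v * -(z * v) = 1 by rw [mul_neg, h, neg_neg]), neg_neg]
    have hwQ : w ∈ Q := (hQ w).2 ⟨hwT, hwd⟩
    have hjQ : j ∈ Q := (hQ j).2 ⟨hjT, hjd⟩
    let cl : Fin 3 → GL (Fin 2) E := ![w, j, w * j]
    have hclQ : ∀ i, cl i ∈ Q := by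
      intro i; fin_cases i
      · exact hwQ
      · exact hjQ
      · exact Q.mul_mem hwQ hjQ
    have hwj2 : (w * j) * (w * j) = -1 := by
      nth_rewrite 2 [hwj]
      rw [mul_neg, mul_assoc, ← mul_assoc j, hj2, neg_mul, one_mul, mul_neg, neg_neg, hw2]
    have hcl2 : ∀ i, cl i * cl i = -1 := by
      intro i; fin_cases i <;> simp [cl, hw2, hj2, hwj2]
    have hfull : ∀ z ∈ Q, z = 1 ∨ z = -1 ∨ ∃ i, z = cl i ∨ z = -cl i := by
      intro z hz
      rcases hanti z hz w hwQ hw2 with h | h | h | h | haw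
      · exact Or.inr (Or.inr ⟨0, Or.inl h⟩)
      · exact Or.inr (Or.inr ⟨0, Or.inr h⟩)
      · exact Or.inl h
      · exact Or.inr (Or.inl h)
      rcases hanti z hz j hjQ hj2 with h | h | h | h | haj
      · exact Or.inr (Or.inr ⟨1, Or.inl h⟩)
      · exact Or.inr (Or.inr ⟨1, Or.inr h⟩)
      · exact Or.inl h
      · exact Or.inr (Or.inl h)
      set u := z * (w * j)
      have huw : w * u = u * w := by
        show w * (z * (w * j)) = z * (w * j) * w
        rw [← mul_assoc w z, show w * z = -(z * w) by rw [haw, neg_neg], neg_mul, mul_assoc z w,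
          mul_assoc z (w * j), mul_assoc w j, show j * w = -(w * j) by rw [hwj, neg_neg]]
        simp [mul_assoc]
      have huj : j * u = u * j := by
        show j * (z * (w * j)) = z * (w * j) * j
        rw [← mul_assoc j z, show j * z = -(z * j) by rw [haj, neg_neg], neg_mul, mul_assoc z j,
          ← mul_assoc j w, show j * w = -(w * j) by rw [hwj, neg_neg]]
        simp [mul_assoc]
      obtain ⟨c, hc⟩ := hcent u (congrArg Units.val huw) (congrArg Units.val huj)
      have huQ : u ∈ Q := Q.mul_mem hz (Q.mul_mem hwQ hjQ)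
      have hwji : (w * j)⁻¹ = -(w * j) := inv_eq_of_mul_eq_one_right (by rw [mul_neg, hwj2, neg_neg])
      have hu1 : u = 1 ∨ u = -1 := by
        have hd := ((hQ u).1 huQ).2
        rw [hc, det_smul, det_one] at hd
        rcases sq_eq_one_iff.1 (show c ^ 2 = 1 by simpa using hd) with rfl | rfl
        · exact Or.inl (Units.ext (by rw [hc]; simp))
        · exact Or.inr (Units.ext (by rw [hc]; simp))
      refine Or.inr (Or.inr ⟨2, ?_⟩)
      rcases hu1 with h | h
      · right
        rw [← mul_inv_cancel_right z (w * j), show z * (w * j) = 1 from h, one_mul, hwji]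
        rfl
      · left
        rw [← mul_inv_cancel_right z (w * j), show z * (w * j) = -1 from h, hwji]
        simp [cl]
    have hinj : ∀ i i', cl i = cl i' ∨ cl i = -cl i' → i = i' := by
      have key : ∀ a b : GL (Fin 2) E, a * b = -(b * a) → ¬ (a = b ∨ a = -b) := by
        intro a b hab h
        have : a * b = b * a := by rcases h with rfl | rfl <;> simp
        rw [hab] at this
        exact (b * a).ne_zero (SylowTwo.eq_neg_self (h2 := h2) (congrArg Units.val this).symm)
      have k2 : w * (w * j) = -(w * j * w) := by rw [mul_assoc w j, show j * w = -(w * j) by rw [hwj, neg_neg]]; simp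
      have k3 : j * (w * j) = -(w * j * j) := by rw [← mul_assoc j w, show j * w = -(w * j) by rw [hwj, neg_neg]]; simp
      have hsymm : ∀ a b : GL (Fin 2) E, a * b = -(b * a) → b * a = -(a * b) := fun a b h => by rw [h, neg_neg]
      intro i i' h
      fin_cases i <;> fin_cases i' <;> first
        | rfl
        | exact absurd h (key _ _ hwj)
        | exact absurd h (key _ _ (hsymm _ _ hwj))
        | exact absurd h (key _ _ k2)
        | exact absurd h (key _ _ (hsymm _ _ k2))
        | exact absurd h (key _ _ k3)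
        | exact absurd h (key _ _ (hsymm _ _ k3))
    have himg : ∀ (h : GL (Fin 2) E), h ∈ Subgroup.normalizer (T : Set (GL (Fin 2) E)) → ∀ i,
        ∃ i', h * cl i * h⁻¹ = cl i' ∨ h * cl i * h⁻¹ = -cl i' := by
      intro h hh i
      have hno : cl i ≠ 1 ∧ cl i ≠ -1 := by
        constructor <;> intro e <;> have := hcl2 i <;> rw [e] at this <;> simp at this <;> exact hne this
      rcases hfull _ (hnQ h hh _ (hclQ i)) with e | e | e
      · exact absurd (conj_eq_one_iff.1 e) hno.1
      · refine absurd ?_ hno.2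
        rw [show cl i = h⁻¹ * (h * cl i * h⁻¹) * h by group, e]; simp
      · exact e
    choose π hπ using himg
    have huq : ∀ h hh i i', (h * cl i * h⁻¹ = cl i' ∨ h * cl i * h⁻¹ = -cl i') → π h hh i = i' := by
      intro h hh i i' e
      refine hinj _ _ ?_
      rcases hπ h hh i with e1 | e1 <;> rcases e with e | e
      · exact Or.inl (e1.symm.trans e)
      · exact Or.inr (e1.symm.trans e)
      · exact Or.inr (by rw [← e, e1, neg_neg])
      · exact Or.inl (neg_injective (e1.symm.trans e))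
    have hmul : ∀ h hh h' hh' i, π (h * h') (Subgroup.mul_mem _ hh hh') i = π h hh (π h' hh' i) := by
      intro h hh h' hh' i
      refine huq _ _ _ _ ?_
      rw [show h * h' * cl i * (h * h')⁻¹ = h * (h' * cl i * h'⁻¹) * h⁻¹ by group]
      rcases hπ h' hh' i with e | e <;> rcases hπ h hh (π h' hh' i) with e' | e' <;> rw [e]
      · exact Or.inl e'
      · exact Or.inr e'
      · exact Or.inr (by rw [mul_neg, neg_mul, e'])
      · exact Or.inl (by rw [mul_neg, neg_mul, e', neg_neg])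
    let N := Subgroup.normalizer (T : Set (GL (Fin 2) E))
    let permHom : N →* Equiv.Perm (Fin 3) :=
      { toFun := fun h =>
          { toFun := π h.1 h.2
            invFun := π (h⁻¹).1 (h⁻¹).2
            left_inv := fun i => by
              refine ((hmul _ _ _ _ i).symm).trans (huq _ _ _ _ (Or.inl ?_))
              simp
            right_inv := fun i => by
              refine ((hmul _ _ _ _ i).symm).trans (huq _ _ _ _ (Or.inl ?_))
              simp }
        map_one' := Equiv.ext fun i => huq _ _ _ _ (Or.inl (by simp))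
        map_mul' := fun a b => Equiv.ext fun i => hmul _ a.2 _ b.2 i }
    have hfixd : ∀ (h : N), permHom h = 1 → ∀ i, (h : GL (Fin 2) E) * cl i * (h : GL (Fin 2) E)⁻¹ = cl i ∨
        (h : GL (Fin 2) E) * cl i * (h : GL (Fin 2) E)⁻¹ = -cl i := by
      intro h e i
      have e' : π h.1 h.2 i = i := DFunLike.congr_fun e i
      have := hπ h.1 h.2 i
      rwa [e'] at this
    obtain ⟨d, hdG, hdns⟩ := hns
    let f : G →* Eˣ := (GeneralLinearGroup.det : GL (Fin 2) E →* Eˣ).comp G.subtype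
    have hf : Function.Surjective f.rangeRestrict := f.rangeRestrict_surjective
    let P' := T'.mapSurjective hf
    let m := ((P' : Sylow 2 f.range) : Subgroup f.range).index
    have hmodd : Odd m := Nat.odd_iff.2 (Nat.two_dvd_ne_zero.1 P'.not_dvd_index)
    haveI : ((P' : Sylow 2 f.range) : Subgroup f.range).Normal :=
      ⟨fun a ha b => by
        have hcm : b * a * b⁻¹ = a :=
          Subtype.ext (mul_inv_eq_iff_eq_mul.2 (mul_comm ((b : f.range) : Eˣ) ((a : f.range) : Eˣ)))
        rwa [hcm]⟩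
    obtain ⟨d', hd'T, hd'⟩ : ∃ d' ∈ T, (d' : Matrix (Fin 2) (Fin 2) E).det = (d : Matrix (Fin 2) (Fin 2) E).det ^ m := by
      have h1 := ((P' : Sylow 2 f.range) : Subgroup f.range).pow_index_mem (f.rangeRestrict ⟨d, hdG⟩)
      obtain ⟨a, ha, hae⟩ := h1
      refine ⟨a.1, ⟨a, ha, rfl⟩, ?_⟩
      have h3 := congrArg (fun u : f.range => ((u : Eˣ) : E)) hae
      simpa [f] using h3
    have hdN : d' ∈ N := Subgroup.le_normalizer hd'T
    have hpd : permHom ⟨d', hdN⟩ ≠ 1 := by
      intro e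
      obtain ⟨q, hqQ, hqw, hqj⟩ : ∃ q ∈ Q, q * w * q⁻¹ = d' * w * d'⁻¹ ∧ q * j * q⁻¹ = d' * j * d'⁻¹ := by
        have hjw : j * w = -(w * j) := by rw [hwj, neg_neg]
        have c1 : w * j * w⁻¹ = -j := by rw [hwj, neg_mul, mul_inv_cancel_right]
        have c2 : j * w * j⁻¹ = -w := by rw [hjw, neg_mul, mul_inv_cancel_right]
        rcases hfixd _ e 0 with e0 | e0 <;> rcases hfixd _ e 1 with e1 | e1 <;>
          simp only [cl, Matrix.cons_val_zero, Matrix.cons_val_one] at e0 e1
        · exact ⟨1, Q.one_mem, by simp [e0], by simp [e1]⟩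
        · exact ⟨w, hwQ, by simp [e0], by rw [c1, e1]⟩
        · exact ⟨j, hjQ, by rw [c2, e0], by simp [e1]⟩
        · refine ⟨w * j, Q.mul_mem hwQ hjQ, ?_, ?_⟩
          · rw [show w * j * w * (w * j)⁻¹ = w * (j * w * j⁻¹) * w⁻¹ by group, c2, e0]; simp
          · rw [show w * j * j * (w * j)⁻¹ = w * j * w⁻¹ by group, c1, e1]
      have hqT := (hQ q).1 hqQ
      have hz : Scal (q⁻¹ * d') := by
        refine hcent _ (congrArg Units.val (?_ : w * (q⁻¹ * d') = q⁻¹ * d' * w))
          (congrArg Units.val (?_ : j * (q⁻¹ * d') = q⁻¹ * d' * j))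
        · rw [show q⁻¹ * d' * w = q⁻¹ * (d' * w * d'⁻¹) * d' by group, ← hqw]; group
        · rw [show q⁻¹ * d' * j = q⁻¹ * (d' * j * d'⁻¹) * d' by group, ← hqj]; group
      obtain ⟨z₀, hz₀G, hz₀⟩ := hdetG d hdG
      obtain ⟨l, hl⟩ := hmodd
      refine hdns ((q⁻¹ * d') * (z₀ ^ l)⁻¹) (G.mul_mem (G.mul_mem (G.inv_mem (hTG hqT.1)) (hTG hd'T))
        (G.inv_mem (G.pow_mem hz₀G l))) ?_ ?_
      · obtain ⟨c, hc⟩ := hz
        refine ⟨c * ((d : Matrix (Fin 2) (Fin 2) E).det ^ l)⁻¹, ?_⟩
        have hinv : (((z₀ ^ l)⁻¹ : GL (Fin 2) E) : Matrix (Fin 2) (Fin 2) E) =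
            ((d : Matrix (Fin 2) (Fin 2) E).det ^ l)⁻¹ • 1 := by
          refine Units.inv_eq_of_mul_eq_one_right ?_
          rw [Units.val_pow_eq_pow_val, hz₀, smul_pow, one_pow, smul_mul_smul_comm, one_mul,
            mul_inv_cancel₀ (pow_ne_zero _ (show (d : Matrix (Fin 2) (Fin 2) E).det ≠ 0 from (d.isUnit.map detMonoidHom).ne_zero)), one_smul]
        rw [Units.val_mul, hc, hinv, smul_mul_smul_comm, one_mul]
      · have hdd : (z₀ : Matrix (Fin 2) (Fin 2) E).det = (d : Matrix (Fin 2) (Fin 2) E).det ^ 2 := by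
          rw [hz₀, det_smul, det_one, Fintype.card_fin, mul_one]
        have hd0 : (d : Matrix (Fin 2) (Fin 2) E).det ≠ 0 := (show (d : Matrix (Fin 2) (Fin 2) E).det ≠ 0 from (d.isUnit.map detMonoidHom).ne_zero)
        rw [Units.val_mul, Units.val_mul, det_mul, det_mul, Matrix.coe_units_inv, det_nonsing_inv,
          Matrix.coe_units_inv, det_nonsing_inv, Units.val_pow_eq_pow_val, det_pow, hdd, hqT.2, hd', Ring.inverse_one,
          one_mul, Ring.inverse_eq_inv', hl, ← pow_mul]
        field_simp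
        ring
    have hc3 : permHom ⟨g, hgN⟩ * permHom ⟨g, hgN⟩ * permHom ⟨g, hgN⟩ = 1 := by
      rcases perm_three_order (permHom ⟨g, hgN⟩) with h | h
      · have h1 : permHom ⟨g, hgN⟩ ^ orderOf g = 1 := by
          rw [← map_pow, show (⟨g, hgN⟩ : N) ^ orderOf g = 1 from Subtype.ext (pow_orderOf_eq_one g), map_one]
        rw [eq_one_of_odd_two (k := 1) (by rw [pow_one, sq]; exact h) ho h1]
        simp
      · exact h
    have hinT : ∀ (a : N), (a : GL (Fin 2) E) ∈ T → permHom a * permHom a = 1 := by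
      intro a ha
      rcases perm_three_order (permHom a) with h | h
      · exact h
      · obtain ⟨k, hk⟩ := two_pow_of_mem hTp ha
        rw [eq_one_of_odd_two (g := permHom a) (k := k) (by rw [← map_pow, show a ^ 2 ^ k = 1 from Subtype.ext hk, map_one])
          (m := 3) (by decide) (by rw [pow_succ, sq]; exact h)]
        simp
    have hcp := perm_three (permHom ⟨g, hgN⟩) (permHom ⟨d', hdN⟩) hc3 (hinT _ hd'T) (by
      rw [← map_inv, ← map_mul, ← map_mul, ← map_mul]
      exact hinT _ (T.mul_mem (hn d' hd'T) hd'T))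
    have hfix1 := hfixd _ (hcp.resolve_right hpd)
    have hcg : ∀ i, g * cl i = cl i * g := by
      intro i
      refine commute_of_sq ho ?_
      have h1 : g ^ 2 * cl i * (g ^ 2)⁻¹ = cl i := by
        rw [show g ^ 2 * cl i * (g ^ 2)⁻¹ = g * (g * cl i * g⁻¹) * g⁻¹ by rw [sq, _root_.mul_inv_rev]; simp [mul_assoc]]
        rcases hfix1 i with e | e
        · rw [e, e]
        · rw [e, mul_neg, neg_mul, e, neg_neg]
      rwa [mul_inv_eq_iff_eq_mul] at h1
    exact hcent _ (congrArg Units.val (hcg 0).symm) (congrArg Units.val (hcg 1).symm)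

end CfsgLib.Pronormal.SylowTwo
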