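import Cfsg.Agent.Lib.Pronormal.TowerBase
import Cfsg.Agent.Lib.Pronormal.Basic
import Cfsg.Agent.Lib.LinearPGroup.SylowTwoOrders
import Cfsg.Agent.Lib.Classical.UnitaryOrder

set_option autoImplicit false

/-!
# Self-normalising Sylow 2-subgroups of `SL_n(q)` and `SU_n(q)`, `n ≥ 4` a power of two, `q` odd
-/

namespace CfsgLib.Pronormal.SylowTwo

open Matrix Cfsg

variable {E : Type*} [Field E]

/-- Two copies of `GL_m` inside `GL_{m+m}`. -/
def reix (m : ℕ) : GL (Fin m ⊕ Fin m) E ≃* GL (Fin (m + m)) E :=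
  Units.mapEquiv ((Matrix.reindexAlgEquiv E E finSumFinEquiv).toMulEquiv)

theorem coe_reix {m : ℕ} (x : GL (Fin m ⊕ Fin m) E) :
    ((reix m x : GL (Fin (m + m)) E) : Matrix (Fin (m + m)) (Fin (m + m)) E) =
      Matrix.reindex finSumFinEquiv finSumFinEquiv (x : Matrix (Fin m ⊕ Fin m) (Fin m ⊕ Fin m) E) := rfl

theorem det_reix {m : ℕ} (x : GL (Fin m ⊕ Fin m) E) :
    ((reix m x : GL (Fin (m + m)) E) : Matrix (Fin (m + m)) (Fin (m + m)) E).det =
      (x : Matrix (Fin m ⊕ Fin m) (Fin m ⊕ Fin m) E).det := by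
  rw [coe_reix, det_reindex_self]

theorem submatrix_scal {α β : Type*} [DecidableEq α] [DecidableEq β] (e : α ≃ β) (c : E) :
    (c • (1 : Matrix β β E)).submatrix e e = c • 1 := by
  ext i j
  simp [Matrix.one_apply]

theorem scal_reix {m : ℕ} {x : GL (Fin m ⊕ Fin m) E} : Scal (reix m x) ↔ Scal x := by
  refine ⟨fun ⟨c, hc⟩ => ⟨c, ?_⟩, fun ⟨c, hc⟩ => ⟨c, by rw [coe_reix, hc, reindex_apply, submatrix_scal]⟩⟩
  rw [coe_reix] at hc
  apply (Matrix.reindex finSumFinEquiv finSumFinEquiv).injective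
  rw [hc, reindex_apply, submatrix_scal]

theorem Tower.reindex {m : ℕ} {G T : Subgroup (GL (Fin m ⊕ Fin m) E)} (h : Tower G T) :
    Tower (G.map (reix m).toMonoidHom) (T.map (reix m).toMonoidHom) where
  le := Subgroup.map_mono h.le
  pgroup := h.pgroup.map _
  neg := by
    refine ⟨⟨-1, h.neg.1, Units.ext ?_⟩, ?_⟩
    · show ((reix m (-1) : GL (Fin (m + m)) E) : Matrix (Fin (m + m)) (Fin (m + m)) E) = _
      rw [coe_reix, Units.val_neg, Units.val_one, reindex_apply, ← neg_one_smul E, submatrix_scal,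
        neg_one_smul, Units.val_neg, Units.val_one]
    · rw [← h.neg.2, ← det_reix (-1 : GL (Fin m ⊕ Fin m) E), coe_reix, Units.val_neg, Units.val_one, Units.val_neg,
        Units.val_one, reindex_apply, ← neg_one_smul E (1 : Matrix (Fin m ⊕ Fin m) (Fin m ⊕ Fin m) E),
        submatrix_scal, neg_one_smul]
  nonscalar := by
    obtain ⟨s, hs, hd, hns⟩ := h.nonscalar
    exact ⟨reix m s, ⟨s, hs, rfl⟩, (det_reix s).trans hd, fun h' => hns (scal_reix.1 h')⟩
  cent := by
    intro M hM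
    obtain ⟨c, hc⟩ := h.cent ((Matrix.reindex finSumFinEquiv finSumFinEquiv).symm M) fun s hs hd => by
      have h1 := hM (reix m s) ⟨s, hs, rfl⟩ ((det_reix s).trans hd)
      have h2 := congrArg (Matrix.reindexAlgEquiv E E finSumFinEquiv).symm h1
      rw [map_mul, map_mul, coe_reix, ← Matrix.coe_reindexAlgEquiv E E, AlgEquiv.symm_apply_apply] at h2
      exact h2
    refine ⟨c, ?_⟩
    apply (Matrix.reindex finSumFinEquiv finSumFinEquiv).symm.injective
    rw [hc, reindex_symm, reindex_apply, Equiv.symm_symm, submatrix_scal]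
  fix := by
    rintro _ ⟨g, hg, rfl⟩ ho hn
    have ho' : Odd (orderOf g) := by
      rwa [← orderOf_injective (reix m).toMonoidHom (reix m).injective g]
    refine scal_reix.2 (h.fix g hg ho' fun s hs => ?_)
    obtain ⟨t, ht, he⟩ := hn (reix m s) ⟨s, hs, rfl⟩
    have : t = g * s * g⁻¹ := (reix m).injective (by simpa using he)
    exact this ▸ ht
  card := by
    rw [Subgroup.card_map_of_injective (f := (reix (E := E) m).toMonoidHom) (reix m).injective,
      Subgroup.card_map_of_injective (f := (reix (E := E) m).toMonoidHom) (reix m).injective]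
    exact h.card

variable [Finite E]

/-- The recursion. -/
theorem exists_tower (h2 : (2 : E) ≠ 0) (G : ∀ n, Subgroup (GL (Fin n) E))
    (hbase : ∃ T, Tower (G 2) T)
    (hblk : ∀ m a b, reix m (blk (a, b)) ∈ G (m + m) ↔ a ∈ G m ∧ b ∈ G m)
    (hswp : ∀ m, reix m swp ∈ G (m + m)) (hperm : ∀ m, ∀ x : GL (Fin m ⊕ Fin m) E,
      (x : Matrix (Fin m ⊕ Fin m) (Fin m ⊕ Fin m) E) = fromBlocks 0 1 1 0 → reix m x ∈ G (m + m))
    (hcard : ∀ k, 1 ≤ k → (Nat.card (G (2 ^ k + 2 ^ k))).factorization 2 =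
      2 * (Nat.card (G (2 ^ k))).factorization 2 + 1) :
    ∀ k, 1 ≤ k → (∀ n, n = 2 ^ k → ∃ T, Tower (G n) T) ∧
      ∀ n, n = 2 ^ (k + 1) → ∃ T, Tower (G n) T ∧ ∀ g ∈ G n, Odd (orderOf g) →
        (∀ s ∈ T, (s : Matrix (Fin n) (Fin n) E).det = 1 → g * s * g⁻¹ ∈ T) → Scal g := by
  have hstep : ∀ k, 1 ≤ k → (∃ T, Tower (G (2 ^ k)) T) →
      ∃ T, Tower (G (2 ^ k + 2 ^ k)) T ∧ ∀ g ∈ G (2 ^ k + 2 ^ k), Odd (orderOf g) →
        (∀ s ∈ T, (s : Matrix (Fin (2 ^ k + 2 ^ k)) (Fin (2 ^ k + 2 ^ k)) E).det = 1 → g * s * g⁻¹ ∈ T) → Scal g := by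
    intro k hk hex
    set m := 2 ^ k
    obtain ⟨T, hT⟩ := hex
    set G' := (G (m + m)).comap (reix (E := E) m).toMonoidHom
    have hmap : G'.map (reix (E := E) m).toMonoidHom = G (m + m) :=
      Subgroup.map_comap_eq_self_of_surjective (reix m).surjective _
    let X : GL (Fin m ⊕ Fin m) E := ⟨fromBlocks 0 1 1 0, fromBlocks 0 1 1 0,
      by simp [fromBlocks_multiply, fromBlocks_one], by simp [fromBlocks_multiply, fromBlocks_one]⟩
    have hle : wr T ≤ G' := by
      rintro x ⟨a, ha, b, hb, hx | hx⟩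
      · rw [show x = blk (a, b) from Units.ext hx]
        exact (hblk m a b).2 ⟨hT.le ha, hT.le hb⟩
      · rw [show x = blk (a, b) * X from Units.ext (by simp [hx, X, coe_blk, fromBlocks_multiply])]
        exact G'.mul_mem ((hblk m a b).2 ⟨hT.le ha, hT.le hb⟩) (hperm m X rfl)
    have hc : (Nat.card G').factorization 2 = 2 * (Nat.card (G m)).factorization 2 + 1 := by
      rw [← hcard k hk]
      conv_rhs => rw [← hmap, Subgroup.card_map_of_injective (f := (reix (E := E) m).toMonoidHom) (reix m).injective]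
    obtain ⟨h1, h2'⟩ := step h2 hT (fun a b h => (hblk m a b).1 h) hle hc
    refine ⟨(wr T).map (reix m).toMonoidHom, hmap ▸ h1.reindex, fun g hg ho hn => ?_⟩
    rw [← hmap] at hg
    obtain ⟨g, hg, rfl⟩ := hg
    have ho' : Odd (orderOf g) := by
      rwa [← orderOf_injective (reix m).toMonoidHom (reix m).injective g]
    refine scal_reix.2 (h2' g hg ho' fun s hs hd => ?_)
    obtain ⟨t, ht, he⟩ := hn (reix m s) ⟨s, hs, rfl⟩ ((det_reix s).trans hd)
    have : t = g * s * g⁻¹ := (reix m).injective (by simpa using he)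
    exact this ▸ ht
  intro k hk
  induction k, hk using Nat.le_induction with
  | base =>
    refine ⟨by rintro n rfl; exact hbase, ?_⟩
    intro n hn
    obtain rfl : n = 2 ^ 1 + 2 ^ 1 := hn
    exact hstep 1 le_rfl hbase
  | succ k hk ih =>
    refine ⟨fun n hn => (ih.2 n hn).imp fun _ h => h.1, fun n hn => ?_⟩
    obtain rfl : n = 2 ^ (k + 1) + 2 ^ (k + 1) := by rw [hn, pow_succ 2 (k + 1)]; omega
    exact hstep (k + 1) (by omega) ((ih.2 _ rfl).imp fun _ h => h.1)

/-- Sylow 2-subgroups of the determinant one part are self-normalising. -/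
theorem normalizer_sylow {n k : ℕ} (hn : n = 2 ^ k) {G T : Subgroup (GL (Fin n) E)} (hT : Tower G T)
    (hfix : ∀ g ∈ G, Odd (orderOf g) →
      (∀ s ∈ T, (s : Matrix (Fin n) (Fin n) E).det = 1 → g * s * g⁻¹ ∈ T) → Scal g)
    {X : Type*} [Group X] [Finite X] (f : X →* GL (Fin n) E) (hf : Function.Injective f)
    (hG : ∀ x, f x ∈ G) (hd : ∀ x, (f x : Matrix (Fin n) (Fin n) E).det = 1)
    (hr : ∀ g ∈ G, (g : Matrix (Fin n) (Fin n) E).det = 1 → g ∈ f.range) (S : Sylow 2 X) :
    Subgroup.normalizer ((S : Subgroup X) : Set X) = S := by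
  have := Fact.mk Nat.prime_two
  let T₀ : Sylow 2 G := Sylow.ofCard (T.subgroupOf G) (by
    rw [Nat.card_congr (Subgroup.subgroupOfEquivOfLe hT.le).toEquiv]; exact hT.card)
  obtain ⟨S', hS'⟩ := (S.isPGroup'.map (f.codRestrict G hG)).exists_le_sylow
  obtain ⟨a, ha⟩ := MulAction.exists_smul_eq G T₀ S'
  have hS'c : (S' : Subgroup G) = cj a (T.subgroupOf G) := by rw [← ha]; rfl
  have hmemS : ∀ x : X, x ∈ (S : Subgroup X) ↔ (a : GL (Fin n) E)⁻¹ * f x * a ∈ T := by
    have hsub : (S : Subgroup X) ≤ (cj (a : GL (Fin n) E) T).comap f := by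
      intro x hx
      have h1 := hS' (Subgroup.mem_map_of_mem _ hx)
      rw [hS'c, mem_cj] at h1
      rw [Subgroup.mem_comap, mem_cj]
      exact h1
    have heq := S.is_maximal' ((hT.pgroup.map _).comap_of_injective f hf) hsub
    intro x
    rw [← heq]
    exact (Subgroup.mem_comap).trans mem_cj
  refine le_antisymm ?_ Subgroup.le_normalizer
  set N := Subgroup.normalizer ((S : Subgroup X) : Set X)
  have hN : ∀ x ∈ N, Odd (orderOf x) → x = 1 := by
    intro x hx ho
    set g := (a : GL (Fin n) E)⁻¹ * f x * a with hg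
    have hgG : g ∈ G := G.mul_mem (G.mul_mem (G.inv_mem a.2) (hG x)) a.2
    have hog : Odd (orderOf g) := ho.of_dvd_nat (orderOf_dvd_of_pow_eq_one (by
      have h3 := conj_pow (i := orderOf x) (a := (a : GL (Fin n) E)⁻¹) (b := f x)
      rw [inv_inv] at h3
      rw [hg, h3, ← map_pow, pow_orderOf_eq_one, map_one]
      simp))
    obtain ⟨c, hc⟩ := hfix g hgG hog fun s hs hsd => by
      obtain ⟨y, hy⟩ := hr ((a : GL (Fin n) E) * s * (a : GL (Fin n) E)⁻¹)
        (G.mul_mem (G.mul_mem a.2 (hT.le hs)) (G.inv_mem a.2))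
        (by rw [Units.val_mul, Units.val_mul, det_units_conj, hsd])
      have hyS : y ∈ (S : Subgroup X) := (hmemS y).2 (by rw [hy]; simpa [mul_assoc] using hs)
      have h4 := (hmemS _).1 ((Subgroup.mem_normalizer_iff.1 hx y).1 hyS)
      rw [map_mul, map_mul, map_inv, hy] at h4
      rw [hg]
      simpa [mul_assoc] using h4
    have hgd : (g : Matrix (Fin n) (Fin n) E).det = 1 := by
      rw [hg, Units.val_mul, Units.val_mul, det_units_conj', hd]
    rw [hc, det_smul, det_one, mul_one, Fintype.card_fin, hn] at hgd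
    have hg1 : g = 1 := eq_one_of_odd_two (k := k) (Units.ext (by
      rw [Units.val_pow_eq_pow_val, hc, smul_pow, one_pow, hgd, one_smul, Units.val_one])) hog (pow_orderOf_eq_one g)
    apply hf
    rw [map_one]
    rw [hg, mul_eq_one_iff_eq_inv] at hg1
    calc f x = (a : GL (Fin n) E) * ((a : GL (Fin n) E)⁻¹ * f x) := by group
      _ = 1 := by rw [hg1, mul_inv_cancel]
  have hp : IsPGroup 2 N := by
    intro z
    refine ⟨(orderOf z).factorization 2, ?_⟩
    set y := z ^ 2 ^ (orderOf z).factorization 2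
    have hz := orderOf_pos z
    have hy : orderOf y = orderOf z / 2 ^ (orderOf z).factorization 2 :=
      orderOf_pow_of_dvd (pow_ne_zero _ two_ne_zero) (Nat.ordProj_dvd _ _)
    have hodd : Odd (orderOf (y : X)) := by
      rw [Subgroup.orderOf_coe, hy, Nat.odd_iff]
      exact Nat.two_dvd_ne_zero.1 (Nat.not_dvd_ordCompl Nat.prime_two hz.ne')
    exact Subtype.ext (hN y y.2 hodd)
  exact (S.is_maximal' hp Subgroup.le_normalizer).le

/-! ### The 2-parts of the orders -/

theorem fact_sum_pow (g : ℕ → ℕ) (c A : ℕ) (he : ∀ j, g (2 * j) = c)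
    (ho : ∀ j, g (2 * j + 1) = A + (j + 1).factorization 2) (m : ℕ) :
    ∑ i ∈ Finset.range (2 * m), g i = m * (c + A) + m.factorial.factorization 2 := by
  induction m with
  | zero => simp
  | succ m ih =>
    rw [show 2 * (m + 1) = 2 * m + 1 + 1 by ring, Finset.sum_range_succ, Finset.sum_range_succ, ih, he, ho,
      Nat.factorial_succ, Nat.factorization_mul (Nat.succ_ne_zero m) (Nat.factorial_ne_zero m), Finsupp.add_apply]
    ring

theorem fact_sum_double (g : ℕ → ℕ) (c A : ℕ) (he : ∀ j, g (2 * j) = c)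
    (ho : ∀ j, g (2 * j + 1) = A + (j + 1).factorization 2) {k : ℕ} (hk : 1 ≤ k) :
    ∑ i ∈ Finset.range (2 ^ k + 2 ^ k), g i = 2 * (∑ i ∈ Finset.range (2 ^ k), g i) + 1 := by
  obtain ⟨l, rfl⟩ := Nat.exists_eq_add_of_le hk
  have h1 : ∀ j, ((2 ^ j).factorial).factorization 2 + 1 = 2 ^ j := by
    intro j
    induction j with
    | zero => simp
    | succ j ih =>
      rw [pow_succ', Nat.factorization_factorial_mul Nat.prime_two]
      omega
  rw [← two_mul, show 2 ^ (1 + l) = 2 * 2 ^ l by rw [pow_add, pow_one],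
    fact_sum_pow g c A he ho, fact_sum_pow g c A he ho, Nat.factorization_factorial_mul Nat.prime_two]
  have := h1 l
  linarith

theorem fact_pow_even {q : ℕ} (hq : 1 < q) (hodd : Odd q) (j : ℕ) :
    (q ^ (2 * j + 1 + 1) - 1).factorization 2 = (q ^ 2 - 1).factorization 2 + (j + 1).factorization 2 := by
  rw [show 2 * j + 1 + 1 = 2 * (j + 1) by ring, pow_mul]
  exact Cfsg.Agent.SylowTwoOrders.lte_two (Nat.one_lt_pow two_ne_zero hq)
    (Cfsg.Agent.SylowTwoOrders.four_dvd_sq_sub_one hodd) _ (Nat.succ_pos j)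

theorem fact_pow_odd {q : ℕ} (hq : 1 < q) (hodd : Odd q) (j : ℕ) :
    (q ^ (2 * j + 1) - 1).factorization 2 = (q - 1).factorization 2 :=
  CfsgLib.Classical.SylowLargePrime.factorization_pow_sub_one hq.le
    (by obtain ⟨c, rfl⟩ := hodd; omega) (by omega)

theorem fact_pow_odd_add {q : ℕ} (hq : 1 < q) (hodd : Odd q) (j : ℕ) :
    (q ^ (2 * j + 1) + 1).factorization 2 = (q + 1).factorization 2 := by
  have hsplit : ∀ y : ℕ, (y ^ 2 - 1) = (y + 1) * (y - 1) := fun y => by
    rw [show y ^ 2 - 1 = y ^ 2 - 1 ^ 2 by simp, Nat.sq_sub_sq]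
  have hy : 1 < q ^ (2 * j + 1) := Nat.one_lt_pow (by omega) hq
  have h1 : ((q ^ (2 * j + 1)) ^ 2 - 1).factorization 2 = (q ^ 2 - 1).factorization 2 := by
    rw [← pow_mul, mul_comm, pow_mul, Cfsg.Agent.SylowTwoOrders.lte_two (Nat.one_lt_pow two_ne_zero hq)
      (Cfsg.Agent.SylowTwoOrders.four_dvd_sq_sub_one hodd) _ (Nat.succ_pos _),
      Nat.factorization_eq_zero_of_not_dvd (show ¬ 2 ∣ 2 * j + 1 by omega), add_zero]
  rw [hsplit, hsplit, Nat.factorization_mul (by omega) (by omega), Nat.factorization_mul (by omega) (by omega),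
    Finsupp.add_apply, Finsupp.add_apply, fact_pow_odd hq hodd] at h1
  omega

/-- A subgroup of units containing `-1` has a non-square. -/
theorem exists_nonsquare_mem (h2 : (2 : E) ≠ 0) (D : Subgroup Eˣ) (hD : -1 ∈ D) :
    ∃ δ ∈ D, ∀ c ∈ D, c ^ 2 ≠ δ := by
  by_contra hc
  push Not at hc
  let sq' : D → D := fun x => x ^ 2
  have hsurj : Function.Surjective sq' := fun δ => by
    obtain ⟨c, hcD, hcc⟩ := hc δ δ.2
    exact ⟨⟨c, hcD⟩, Subtype.ext hcc⟩
  have h := (Finite.injective_iff_surjective.2 hsurj) (a₁ := ⟨-1, hD⟩) (a₂ := 1)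
    (Subtype.ext (by simp [sq']))
  have h' : ((-1 : Eˣ) : E) = 1 := congrArg (fun x : D => ((x : Eˣ) : E)) h
  simp at h'
  exact h2 (by linear_combination -h')

/-- The base data. -/
theorem base_of_squares (hodd : Odd (Nat.card E)) (G : Subgroup (GL (Fin 2) E)) {a b : E}
    (hab : a * a + b * b = -1)
    (hj : ∀ x : GL (Fin 2) E, (x : Matrix (Fin 2) (Fin 2) E) = !![a, b; b, -a] → x ∈ G)
    (hw : ∀ x : GL (Fin 2) E, (x : Matrix (Fin 2) (Fin 2) E) = !![0, 1; -1, 0] → x ∈ G)
    (D : Subgroup Eˣ) (hD : -1 ∈ D) (hDG : ∀ g ∈ G, GeneralLinearGroup.det g ∈ D)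
    (hscal : ∀ z : GL (Fin 2) E, ∀ c : Eˣ, (z : Matrix (Fin 2) (Fin 2) E) = (c : E) • 1 → (z ∈ G ↔ c ∈ D))
    (hdiag : ∀ z : GL (Fin 2) E, ∀ c ∈ D, (z : Matrix (Fin 2) (Fin 2) E) = !![((c : Eˣ) : E), 0; 0, 1] → z ∈ G) :
    ∃ T, Tower G T := by
  have h2 : (2 : E) ≠ 0 := CfsgLib.SL2.odd_card_two_ne_zero hodd
  let w : GL (Fin 2) E := GeneralLinearGroup.mkOfDetNeZero !![0, 1; -1, 0] (by simp [det_fin_two])
  let j : GL (Fin 2) E := GeneralLinearGroup.mkOfDetNeZero !![a, b; b, -a] (by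
    rw [det_fin_two_of, show a * -a - b * b = 1 by linear_combination -hab]; exact one_ne_zero)
  obtain ⟨δ, hδ, hδns⟩ := exists_nonsquare_mem h2 D hD
  refine base hodd G w j (hw w rfl) (hj j rfl) (by simp [w, det_fin_two]) ?_ ?_ ?_ ?_ ?_ ?_
  · show (!![a, b; b, -a] : Matrix (Fin 2) (Fin 2) E).det = 1
    rw [det_fin_two_of]; linear_combination -hab
  · refine Units.ext ?_
    show (!![0, 1; -1, 0] : Matrix (Fin 2) (Fin 2) E) * !![0, 1; -1, 0] = -1
    simp [one_fin_two]
  · refine Units.ext ?_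
    show (!![a, b; b, -a] : Matrix (Fin 2) (Fin 2) E) * !![a, b; b, -a] = -1
    simp [one_fin_two]
    exact ⟨⟨hab, by ring⟩, by ring, by linear_combination hab⟩
  · refine Units.ext ?_
    show (!![0, 1; -1, 0] : Matrix (Fin 2) (Fin 2) E) * !![a, b; b, -a] =
      -((!![a, b; b, -a] : Matrix (Fin 2) (Fin 2) E) * !![0, 1; -1, 0])
    simp
  · intro g hg
    refine ⟨GeneralLinearGroup.mkOfDetNeZero ((GeneralLinearGroup.det g : E) • 1) (by
      rw [det_smul, det_one, mul_one]; exact pow_ne_zero _ (Units.ne_zero _)),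
      (hscal _ _ rfl).2 (hDG g hg), rfl⟩
  · refine ⟨GeneralLinearGroup.mkOfDetNeZero !![((δ : Eˣ) : E), 0; 0, 1] (by simp [det_fin_two]),
      hdiag _ δ hδ rfl, ?_⟩
    rintro z hzG ⟨c, hc⟩
    have hc0 : c ≠ 0 := fun h0 => z.ne_zero (by rw [hc, h0, zero_smul])
    intro he
    refine hδns (Units.mk0 c hc0) ((hscal z (Units.mk0 c hc0) hc).1 hzG) (Units.ext ?_)
    rw [hc, det_smul, det_one, mul_one, Fintype.card_fin] at he
    simpa [det_fin_two] using he

/-- Sylow 2-subgroups of `SL_n`. -/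
theorem normalizer_sylow_SL [Fintype E] (hodd : Odd (Fintype.card E)) {k : ℕ} (hk : 2 ≤ k)
    (S : Sylow 2 (SpecialLinearGroup (Fin (2 ^ k)) E)) :
    Subgroup.normalizer ((S : Subgroup (SpecialLinearGroup (Fin (2 ^ k)) E)) :
      Set (SpecialLinearGroup (Fin (2 ^ k)) E)) = S := by
  have hodd' : Odd (Nat.card E) := by rwa [Nat.card_eq_fintype_card]
  have h2 : (2 : E) ≠ 0 := CfsgLib.SL2.odd_card_two_ne_zero hodd'
  have hchar : ringChar E ≠ 2 := fun h => h2 (by
    have := ringChar.Nat.cast_ringChar (R := E); rw [h] at this; exact_mod_cast this)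
  obtain ⟨a, b, hab⟩ := FiniteField.exists_root_sum_quadratic (R := E) (f := Polynomial.X ^ 2)
    (g := Polynomial.X ^ 2 - Polynomial.C (-1)) (by simp) (Polynomial.degree_X_pow_sub_C (by norm_num) _)
    (Nat.odd_iff.1 hodd)
  simp at hab
  have hq : 1 < Fintype.card E := Fintype.one_lt_card
  obtain ⟨l, rfl⟩ := Nat.exists_eq_add_of_le hk
  obtain ⟨T, hT, hfix⟩ := ((exists_tower h2 (fun n => (⊤ : Subgroup (GL (Fin n) E)))
    (base_of_squares hodd' ⊤ (a := a) (b := b) (by linear_combination hab) (fun _ _ => trivial) (fun _ _ => trivial)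
      ⊤ trivial (fun _ _ => trivial) (fun _ _ _ => by simp) (fun _ _ _ _ => trivial))
    (fun m a b => by simp) (fun m => trivial) (fun m _ _ => trivial) (fun j hj => by
      simp only [Subgroup.card_top]
      rw [Cfsg.Agent.SylowTwoOrders.fact_GL_sum rfl hodd, Cfsg.Agent.SylowTwoOrders.fact_GL_sum rfl hodd]
      exact fact_sum_double _ _ _ (fun i => fact_pow_odd hq hodd i) (fun i => fact_pow_even hq hodd i) hj))
    (1 + l) (by omega)).2 (2 ^ (2 + l)) (by ring_nf)
  exact normalizer_sylow rfl hT hfix SpecialLinearGroup.toGL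
    (fun x y h => Subtype.ext (congrArg Units.val h)) (fun _ => trivial) (fun x => x.2)
    (fun g _ hg => ⟨⟨g, hg⟩, Units.ext rfl⟩) S

/-- Sylow 2-subgroups of `SU_n`. -/
theorem normalizer_sylow_SU [Fintype E] {q : ℕ} (hF : Fintype.card E = q ^ 2) (hodd : Odd (Fintype.card E))
    {k : ℕ} (hk : 2 ≤ k) (S : Sylow 2 (SU (2 ^ k) E q)) :
    Subgroup.normalizer ((S : Subgroup (SU (2 ^ k) E q)) : Set (SU (2 ^ k) E q)) = S := by
  obtain ⟨K⟩ := CfsgLib.Classical.Herm.exists_conj_of_card hF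
  have hodd' : Odd (Nat.card E) := by rwa [Nat.card_eq_fintype_card]
  have h2 : (2 : E) ≠ 0 := CfsgLib.SL2.odd_card_two_ne_zero hodd'
  have hq : 1 < q := K.two_le
  have hqodd : Odd q := by rw [hF] at hodd; exact (Nat.odd_pow_iff two_ne_zero).1 hodd
  have hmem : ∀ {n : ℕ} (g : GL (Fin n) E), g ∈ GU n E q ↔
      (g : Matrix (Fin n) (Fin n) E)ᵀ * (g : Matrix (Fin n) (Fin n) E).map K.bar = 1 :=
    fun g => CfsgLib.ClassicalAut.Unitary.mem_GU_iff K
  -- two squares in the fixed field times an anti-fixed element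
  obtain ⟨a, b, hab, ha, hb⟩ : ∃ a b : E, a * a + b * b = -1 ∧ K.bar a = -a ∧ K.bar b = -b := by
    obtain ⟨y, hy⟩ := K.exists_moved
    set ι := y - K.bar y
    have hι : K.bar ι = -ι := by rw [map_sub, K.bar_bar]; ring
    have hι0 : ι ≠ 0 := sub_ne_zero.2 (Ne.symm hy)
    clear_value ι
    let L : Subfield E := RingHom.eqLocusField (K.bar : E →+* E) (RingHom.id E)
    let _ : Fintype L := Fintype.ofFinite L
    have hLodd : Fintype.card L % 2 = 1 := by
      have hd : Fintype.card L ∣ Fintype.card E := by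
        rw [Module.card_eq_pow_finrank (K := L) (V := E)]
        exact dvd_pow_self _ Module.finrank_pos.ne'
      exact Nat.odd_iff.1 (hodd.of_dvd_nat hd)
    let c : L := ⟨-(ι * ι)⁻¹, by
      show K.bar (-(ι * ι)⁻¹) = -(ι * ι)⁻¹
      rw [map_neg, map_inv₀, map_mul, hι, neg_mul_neg]⟩
    obtain ⟨e, f, hef⟩ := FiniteField.exists_root_sum_quadratic (R := L) (f := Polynomial.X ^ 2)
      (g := Polynomial.X ^ 2 - Polynomial.C c) (by simp) (Polynomial.degree_X_pow_sub_C (by norm_num) _) hLodd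
    have hef' := congrArg (fun x : L => (x : E)) hef
    simp [c] at hef'
    refine ⟨ι * e, ι * f, ?_, ?_, ?_⟩
    · have hii : ι * ι⁻¹ = 1 := mul_inv_cancel₀ hι0
      linear_combination (ι * ι) * hef' - (ι * ι⁻¹ + 1) * hii
    · rw [map_mul, hι, show K.bar (e : E) = e from e.2, neg_mul]
    · rw [map_mul, hι, show K.bar (f : E) = f from f.2, neg_mul]
  -- the norm one units
  let D : Subgroup Eˣ := CfsgLib.ClassicalAut.Unitary.normOne K
  have hD : ∀ c : Eˣ, c ∈ D ↔ (c : E) * K.bar c = 1 := fun c => CfsgLib.ClassicalAut.Unitary.mem_normOne K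
  have hbase : ∃ T, Tower (GU 2 E q) T := by
    refine base_of_squares hodd' _ hab (fun x hx => ?_) (fun x hx => ?_) D ?_ ?_ ?_ ?_
    · rw [hmem, hx]
      ext i j
      fin_cases i <;> fin_cases j <;> simp [ha, hb, Matrix.mul_apply, Fin.sum_univ_two] <;>
        first | linear_combination hab | linear_combination -hab | ring
    · rw [hmem, hx]
      ext i j
      fin_cases i <;> fin_cases j <;> simp [Matrix.mul_apply, Fin.sum_univ_two]
    · rw [hD]; simp
    · intro g hg
      rw [hmem] at hg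
      rw [hD, GeneralLinearGroup.val_det_apply]
      have := congrArg Matrix.det hg
      rwa [det_mul, det_transpose, det_one, ← RingEquiv.coe_toRingHom, ← RingHom.mapMatrix_apply, ← RingHom.map_det] at this
    · intro z c hz
      rw [hmem, hz, hD]
      refine ⟨fun h => ?_, fun h => ?_⟩
      · have := congrFun (congrFun h 0) 0
        simpa [Matrix.mul_apply, Fin.sum_univ_two] using this
      · ext i j
        fin_cases i <;> fin_cases j <;> simp [Matrix.mul_apply, Fin.sum_univ_two, h]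
    · intro z c hc hz
      rw [hmem, hz]
      rw [hD] at hc
      ext i j
      fin_cases i <;> fin_cases j <;> simp [Matrix.mul_apply, Fin.sum_univ_two, hc]
  have hre : ∀ (m : ℕ) (x : GL (Fin m ⊕ Fin m) E), reix m x ∈ GU (m + m) E q ↔
      (x : Matrix (Fin m ⊕ Fin m) (Fin m ⊕ Fin m) E)ᵀ * (x : Matrix (Fin m ⊕ Fin m) (Fin m ⊕ Fin m) E).map K.bar = 1 := by
    intro m x
    rw [hmem, coe_reix, Matrix.reindex_apply, transpose_submatrix, ← submatrix_map, submatrix_mul_equiv,
      ← (Matrix.reindex (finSumFinEquiv (m := m) (n := m)) finSumFinEquiv).injective.eq_iff (b := 1),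
      Matrix.reindex_apply, Matrix.reindex_apply, submatrix_one_equiv]
  have hK0 : K.bar 0 = 0 := map_zero _
  obtain ⟨l, rfl⟩ := Nat.exists_eq_add_of_le hk
  obtain ⟨T, hT, hfix⟩ := ((exists_tower h2 (fun n => GU n E q) hbase
    (fun m a b => by
      rw [hre, coe_blk, fromBlocks_transpose, fromBlocks_map, fromBlocks_multiply, ← fromBlocks_one, fromBlocks_inj,
        hmem, hmem]
      simp [Matrix.map_zero _ hK0])
    (fun m => by
      rw [hre]
      simp [swp, fromBlocks_transpose, fromBlocks_map, fromBlocks_multiply, ← fromBlocks_one,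
        Matrix.map_zero _ hK0, Matrix.map_one _ hK0 (map_one K.bar), Matrix.map_neg _ (map_neg K.bar)])
    (fun m x hx => by
      rw [hre, hx]
      simp [fromBlocks_transpose, fromBlocks_map, fromBlocks_multiply, ← fromBlocks_one,
        Matrix.map_zero _ hK0, Matrix.map_one _ hK0 (map_one K.bar)])
    (fun j hj => by
      have hfac : ∀ n, (Nat.card (GU n E q)).factorization 2 =
          ∑ i ∈ Finset.range n, (if Even i then q ^ (i + 1) + 1 else q ^ (i + 1) - 1).factorization 2 := by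
        intro n
        have hne : ∀ i ∈ Finset.range n, (if Even i then q ^ (i + 1) + 1 else q ^ (i + 1) - 1) ≠ 0 := by
          intro i _
          have : 1 < q ^ (i + 1) := Nat.one_lt_pow (Nat.succ_ne_zero i) hq
          split_ifs <;> omega
        rw [CfsgLib.Classical.Herm.card_GU K, Nat.factorization_mul (pow_ne_zero _ (by omega)) (Finset.prod_ne_zero_iff.mpr hne),
          Finsupp.add_apply, Nat.factorization_eq_zero_of_not_dvd (fun h => Nat.not_even_iff_odd.mpr hqodd
            (even_iff_two_dvd.mpr (Nat.prime_two.dvd_of_dvd_pow h))), zero_add, Nat.factorization_prod hne,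
          Finsupp.finsetSum_apply]
      rw [hfac, hfac]
      exact fact_sum_double _ _ _ (fun i => by rw [if_pos (even_two_mul i)]; exact fact_pow_odd_add hq hqodd i)
        (fun i => by rw [if_neg (Nat.not_even_iff_odd.2 (odd_two_mul_add_one i))]; exact fact_pow_even hq hqodd i) hj))
    (1 + l) (by omega)).2 (2 ^ (2 + l)) (by ring_nf)
  exact normalizer_sylow rfl hT hfix (SpecialLinearGroup.toGL.comp (SU (2 ^ (2 + l)) E q).subtype)
    (fun x y h => Subtype.ext (Subtype.ext (congrArg Units.val h))) (fun x => fun u v => x.2 u v) (fun x => x.1.2)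
    (fun g hg hd => ⟨⟨⟨g, hd⟩, fun u v => hg u v⟩, Units.ext rfl⟩) S

end CfsgLib.Pronormal.SylowTwo
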